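import Cfsg.Agent.Lib.Invol.CyclicInter.Orbit
import Cfsg.Agent.Lib.SU.InvolCentThree.Models
import Cfsg.Agent.Lib.Char.J1.Structure
import Cfsg.Agent.Lib.Invol.Basic
import Cfsg.Agent.S4273

/-!
# The groups with elementary abelian Sylow subgroups
-/

set_option autoImplicit false
set_option linter.unusedSectionVars false
set_option linter.style.haveILetI false

namespace CfsgLib.CycInter

open Subgroup Matrix CfsgLib.AutPSL

/-- The groups `PSL₂(2ⁿ)`. -/
theorem hasTData_psl_two {F : Type} [Field F] [Fintype F] {n : ℕ} (hF : Fintype.card F = 2 ^ n) (hn : 2 ≤ n) :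
    HasTData (Matrix.ProjectiveSpecialLinearGroup (Fin 2) F) := by
  classical
  haveI : Fact (Nat.Prime 2) := ⟨Nat.prime_two⟩
  haveI : CharP F 2 := charP_of_card_eq_prime_pow (f := n) hF
  obtain ⟨g, hg⟩ := IsCyclic.exists_generator (α := Fˣ)
  let M : F → Matrix.SpecialLinearGroup (Fin 2) F := fun x => ⟨!![1, x; 0, 1], by rw [det_fin_two_of]; ring⟩
  have hMmul : ∀ x y, M (x + y) = M x * M y := fun x y => Subtype.ext (by
    show _ = (M x).1 * (M y).1
    ext i j
    fin_cases i <;> fin_cases j <;> simp [M, mul_apply, Fin.sum_univ_two, add_comm])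
  let f : Multiplicative F →* Matrix.ProjectiveSpecialLinearGroup (Fin 2) F :=
    MonoidHom.mk' (fun x => proj (M x.toAdd)) fun x y => by
      show proj (M (x.toAdd + y.toAdd)) = _
      rw [hMmul, map_mul]
  have hfval : ∀ x : F, f (Multiplicative.ofAdd x) = proj (M x) := fun x => rfl
  have hinj : Function.Injective f := by
    intro x y hxy
    apply Multiplicative.toAdd.injective
    rcases FourFree.PSL.proj_eq_iff.1 (show proj (M _) = proj (M _) from hxy) with h | h
    · simpa [M] using congrFun (congrFun h 0) 1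
    · simpa [M, CharTwo.neg_eq] using congrFun (congrFun h 0) 1
  let T : Matrix.SpecialLinearGroup (Fin 2) F := ⟨!![(g : F), 0; 0, (g : F)⁻¹], by
    rw [det_fin_two_of, mul_inv_cancel₀ g.ne_zero]; ring⟩
  have hT : ∀ x, T * M x = M ((g : F) ^ 2 * x) * T := fun x => Subtype.ext (by
    show T.1 * (M x).1 = (M _).1 * T.1
    ext i j
    fin_cases i <;> fin_cases j <;> simp [M, T, mul_apply, Fin.sum_univ_two] <;> field_simp)
  have hconj : ∀ x, proj T * f (Multiplicative.ofAdd x) * (proj T)⁻¹ = f (Multiplicative.ofAdd ((g : F) ^ 2 * x)) := fun x => by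
    rw [hfval, hfval, ← map_mul, hT, map_mul, mul_inv_cancel_right]
  have hcard : Nat.card (Matrix.ProjectiveSpecialLinearGroup (Fin 2) F) =
      2 ^ n * ((2 ^ n - 1) * (2 ^ n + 1)) := by
    have h := CfsgLib.Classical.card_psl2 (F := F)
    rw [hF] at h
    have hgc : Nat.gcd 2 (2 ^ n - 1) = 1 := by
      have h2n : 2 ∣ 2 ^ n := dvd_pow_self 2 (by omega)
      have := Nat.one_le_pow n 2 (by norm_num)
      exact (Nat.prime_two.coprime_iff_not_dvd.2 (by omega))
    rwa [hgc, one_mul] at h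
  have hodd : Odd ((2 ^ n - 1) * (2 ^ n + 1)) := by
    have he : Even (2 ^ n) := Nat.even_pow.2 ⟨even_two, by omega⟩
    exact (Nat.Even.sub_odd (Nat.one_le_two_pow) he odd_one).mul he.add_one
  have hfc : Nat.card f.range = 2 ^ n := by
    rw [← Nat.card_congr (MonoidHom.ofInjective hinj).toEquiv, Nat.card_congr Multiplicative.toAdd,
      Nat.card_eq_fintype_card, hF]
  let P : Sylow 2 (Matrix.ProjectiveSpecialLinearGroup (Fin 2) F) := Sylow.ofCard f.range (by
    rw [hfc, hcard, Nat.factorization_mul (by positivity) (by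
        intro h0; rw [h0] at hodd; simp at hodd), Finsupp.add_apply,
      Nat.Prime.factorization_pow Nat.prime_two, Finsupp.single_eq_same,
      Nat.factorization_eq_zero_of_not_dvd hodd.not_two_dvd_nat, add_zero])
  refine hasTData_of (S := P) (τ := proj T) (TData.of_orbit (a₀ := f (Multiplicative.ofAdd 1)) ?_ ?_ ?_ ?_)
  · rintro _ ⟨x, rfl⟩
    exact ⟨Multiplicative.ofAdd ((g : F) ^ 2 * x.toAdd), (hconj x.toAdd).symm⟩
  · rintro _ ⟨x, rfl⟩
    rw [← map_mul, ← map_one f]
    exact congrArg f (Multiplicative.toAdd.injective (by simp [CharTwo.add_self_eq_zero]))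
  · obtain ⟨c, hc0, hc1⟩ : ∃ c : F, c ≠ 0 ∧ c ≠ 1 := by
      by_contra hh
      push Not at hh
      have : (Finset.univ : Finset F) ⊆ {0, 1} := fun x _ => by
        rcases eq_or_ne x 0 with e | e
        · simp [e]
        · simp [hh x e]
      have h2 := (Finset.card_le_card this).trans Finset.card_le_two
      rw [Finset.card_univ, hF] at h2
      have := Nat.pow_le_pow_right (show 1 ≤ 2 by norm_num) hn
      omega
    exact ⟨f (Multiplicative.ofAdd 1), ⟨_, rfl⟩, f (Multiplicative.ofAdd c), ⟨_, rfl⟩,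
      fun e => one_ne_zero (ofAdd_eq_one.1 (hinj (e.trans (map_one f).symm))),
      fun e => hc0 (ofAdd_eq_one.1 (hinj (e.trans (map_one f).symm))),
      fun e => hc1 (Multiplicative.ofAdd.injective (hinj e)).symm⟩
  · rintro _ ⟨x, rfl⟩ hx1
    have hx0 : x.toAdd ≠ 0 := fun e => hx1 (by rw [show x = 1 from toAdd_eq_zero.1 e, map_one])
    obtain ⟨u, hu⟩ : ∃ u : F, u ^ 2 = x.toAdd := surjective_frobenius F 2 _
    have hu0 : u ≠ 0 := fun e => hx0 (by rw [← hu, e, zero_pow two_ne_zero])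
    obtain ⟨j, hj⟩ := (Submonoid.mem_powers_iff (Units.mk0 u hu0) g).1 (mem_powers_iff_mem_zpowers.2 (hg _))
    refine ⟨j, ?_⟩
    have key : ∀ i : ℕ, proj T ^ i * f (Multiplicative.ofAdd 1) * (proj T ^ i)⁻¹ =
        f (Multiplicative.ofAdd (((g : F) ^ i) ^ 2)) := by
      intro i
      induction i with
      | zero => simp
      | succ i ih =>
        rw [show proj T ^ (i + 1) * f (Multiplicative.ofAdd 1) * (proj T ^ (i + 1))⁻¹ =
          proj T * (proj T ^ i * f (Multiplicative.ofAdd 1) * (proj T ^ i)⁻¹) * (proj T)⁻¹ by rw [pow_succ']; group,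
          ih, hconj]
        congr 2
        ring
    rw [key, ← Units.val_pow_eq_pow_val, hj, Units.val_mk0, hu, ofAdd_toAdd]

/-- A simple group with Sylow subgroups of order four. -/
theorem hasTData_of_card_four {G : Type*} [Group G] [Finite G] [IsSimpleGroup G] (hG : ¬ IsMulCommutative G)
    (S : Sylow 2 G) (h4 : Nat.card (S : Subgroup G) = 4) : HasTData G := by
  classical
  haveI : Fact (Nat.Prime 2) := ⟨Nat.prime_two⟩
  have hcS : ∀ a ∈ (S : Subgroup G), ∀ b ∈ (S : Subgroup G), a * b = b * a := fun a ha b hb =>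
    congrArg Subtype.val ((IsPGroup.isMulCommutative_of_card_eq_prime_sq (p := 2) (G := ↥(S : Subgroup G)) h4).is_comm.comm
      ⟨a, ha⟩ ⟨b, hb⟩)
  obtain ⟨m, hm, a, ha, hma⟩ : ∃ m ∈ normalizer ((S : Subgroup G) : Set G), ∃ a ∈ (S : Subgroup G),
      m * a * m⁻¹ ≠ a := by
    by_contra hh
    push Not at hh
    have hle : normalizer ((S : Subgroup G) : Set G) ≤ centralizer ((S : Subgroup G) : Set G) := fun m hm =>
      mem_centralizer_iff.2 fun a ha => (mul_inv_eq_iff_eq_mul.1 (hh m hm a ha)).symm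
    have hcomp := MonoidHom.ker_transferSylow_isComplement' S hle
    rcases (inferInstance : (MonoidHom.transferSylow S hle).ker.Normal).eq_bot_or_eq_top with e | e
    · rw [e] at hcomp
      exact hG ⟨⟨fun x y => hcS x ((Subgroup.isComplement'_bot_left.1 hcomp).symm ▸ mem_top x) y
        ((Subgroup.isComplement'_bot_left.1 hcomp).symm ▸ mem_top y)⟩⟩
    · rw [e] at hcomp
      rw [Subgroup.isComplement'_top_left.1 hcomp, card_bot] at h4
      omega
  -- an odd power fixes everything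
  obtain ⟨k, r, hr, hn⟩ := Nat.exists_eq_two_pow_mul_odd (orderOf_pos m).ne'
  have hfix : ∀ w ∈ (S : Subgroup G), m ^ r * w * (m ^ r)⁻¹ = w := fun w hw => by
    have h1 : m ^ r ∈ (S : Subgroup G) := by
      have hR : IsPGroup 2 (zpowers (m ^ r) ⊔ (S : Subgroup G) : Subgroup G) := by
        refine IsPGroup.to_sup_of_normal_right' ?_ S.2 (zpowers_le.2 (pow_mem hm r))
        refine IsPGroup.of_card (n := k) ?_
        rw [Nat.card_zpowers, orderOf_pow_of_dvd hr.pos.ne' (hn ▸ dvd_mul_left r _), hn, Nat.mul_div_cancel _ hr.pos]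
      rw [← S.3 hR le_sup_right]
      exact mem_sup_left (mem_zpowers _)
    rw [hcS _ h1 _ hw, mul_inv_cancel_right]
  set b := m * a * m⁻¹ with hb
  set c := m * b * m⁻¹ with hc
  have hbS : b ∈ (S : Subgroup G) := (mem_set_normalizer_iff.1 hm a).1 ha
  have hcS' : c ∈ (S : Subgroup G) := (mem_set_normalizer_iff.1 hm b).1 hbS
  have hca : c ≠ a := by
    intro e
    obtain ⟨i, rfl⟩ := hr
    have key : ∀ j : ℕ, m ^ (2 * j) * a * (m ^ (2 * j))⁻¹ = a := fun j => by
      induction j with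
      | zero => simp
      | succ j ih =>
        calc m ^ (2 * (j + 1)) * a * (m ^ (2 * (j + 1)))⁻¹
            = m * (m * (m ^ (2 * j) * a * (m ^ (2 * j))⁻¹) * m⁻¹) * m⁻¹ := by
              rw [show 2 * (j + 1) = 2 * j + 1 + 1 by ring, pow_succ', pow_succ']; group
          _ = a := by rw [ih, ← hb, ← hc, e]
    refine hma ?_
    calc b = m * (m ^ (2 * i) * a * (m ^ (2 * i))⁻¹) * m⁻¹ := by rw [key i, hb]
      _ = m ^ (2 * i + 1) * a * (m ^ (2 * i + 1))⁻¹ := by rw [pow_succ']; group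
      _ = a := hfix a ha
  have ha1 : a ≠ 1 := fun e => hma (by rw [hb, e]; group)
  have hb1 : b ≠ 1 := fun e => ha1 (by rw [show a = m⁻¹ * b * m by rw [hb]; group, e]; group)
  have hc1 : c ≠ 1 := fun e => hb1 (by rw [show b = m⁻¹ * c * m by rw [hc]; group, e]; group)
  have hcb : c ≠ b := fun e => hma (mul_left_cancel (mul_right_cancel (hc.symm.trans e |>.trans hb)))
  have hall : ∀ w ∈ (S : Subgroup G), w = 1 ∨ w = a ∨ w = b ∨ w = c := by
    intro w hw
    by_contra hh
    push Not at hh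
    have hsub : ((({1, a, b, c, w} : Finset G)) : Set G) ⊆ ((S : Subgroup G) : Set G) := by
      intro u hu
      simp only [Finset.coe_insert, Finset.coe_singleton, Set.mem_insert_iff, Set.mem_singleton_iff] at hu
      rcases hu with rfl | rfl | rfl | rfl | rfl
      exacts [one_mem _, ha, hbS, hcS', hw]
    have h5 : ({1, a, b, c, w} : Finset G).card = 5 := by
      rw [Finset.card_insert_of_notMem, Finset.card_insert_of_notMem, Finset.card_insert_of_notMem,
        Finset.card_insert_of_notMem, Finset.card_singleton] <;>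
        simp [ha1.symm, hb1.symm, hc1.symm, hma, Ne.symm hma, hca.symm, hcb.symm, hh.1.symm, hh.2.1.symm, hh.2.2.1.symm,
          hh.2.2.2.symm]
    have hle := Set.ncard_le_ncard hsub (Set.toFinite _)
    rw [Set.ncard_coe_finset, h5, ← Nat.card_coe_set_eq] at hle
    change 5 ≤ Nat.card (S : Subgroup G) at hle
    omega
  have horb : ∀ w ∈ (S : Subgroup G), w ≠ 1 → ∃ j : ℕ, m ^ j * a * (m ^ j)⁻¹ = w := by
    intro w hw hw1
    rcases (hall w hw).resolve_left hw1 with rfl | rfl | rfl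
    · exact ⟨0, by simp⟩
    · exact ⟨1, by rw [pow_one, hb]⟩
    · exact ⟨2, by rw [hc, hb, pow_two]; group⟩
  obtain ⟨t, htS, ht⟩ : ∃ t ∈ (S : Subgroup G), orderOf t = 2 :=
    CfsgLib.Invol.exists_invol_mem (by rw [h4]; decide)
  have hsq : ∀ w ∈ (S : Subgroup G), w * w = 1 := by
    intro w hw
    rcases eq_or_ne w 1 with rfl | hw1
    · exact one_mul 1
    obtain ⟨i, hi⟩ := horb t htS (CfsgLib.Invol.invol_ne_one ht)
    obtain ⟨j, hj⟩ := horb w hw hw1
    have h2 : (m ^ i * a * (m ^ i)⁻¹) * (m ^ i * a * (m ^ i)⁻¹) = 1 := by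
      rw [hi]; exact CfsgLib.Invol.invol_mul_self ht
    have haa : a * a = 1 := by
      calc a * a = (m ^ i)⁻¹ * ((m ^ i * a * (m ^ i)⁻¹) * (m ^ i * a * (m ^ i)⁻¹)) * m ^ i := by group
        _ = 1 := by rw [h2]; group
    rw [← hj, show m ^ j * a * (m ^ j)⁻¹ * (m ^ j * a * (m ^ j)⁻¹) = m ^ j * (a * a) * (m ^ j)⁻¹ by group, haa,
      mul_one, mul_inv_cancel]
  exact hasTData_of (S := S) (τ := m) (TData.of_orbit (a₀ := a) (fun s hs => (mem_set_normalizer_iff.1 hm s).1 hs)
    hsq ⟨a, ha, b, hbS, ha1, hb1, Ne.symm hma⟩ horb)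

/-- The groups `PSL₂(q)` with `q ≡ 3, 5 (mod 8)`. -/
theorem hasTData_psl_odd {F : Type} [Field F] [Fintype F] (h8 : Fintype.card F % 8 = 3 ∨ Fintype.card F % 8 = 5)
    {G : Type*} [Group G] [Finite G] [IsSimpleGroup G] (hG : ¬ IsMulCommutative G)
    (e : G ≃* Matrix.ProjectiveSpecialLinearGroup (Fin 2) F) : HasTData G := by
  haveI : Fact (Nat.Prime 2) := ⟨Nat.prime_two⟩
  obtain ⟨S⟩ := (inferInstance : Nonempty (Sylow 2 G))
  refine hasTData_of_card_four hG S ?_
  have hcard := CfsgLib.Classical.card_psl2 (F := F)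
  rw [Nat.gcd_eq_left (show 2 ∣ Fintype.card F - 1 by omega), ← Nat.card_congr e.toEquiv] at hcard
  set q := Fintype.card F
  obtain ⟨k, hk⟩ : ∃ k, q * ((q - 1) * (q + 1)) = 8 * k ∧ Odd k := by
    rcases h8 with h | h <;> obtain ⟨i, hi⟩ : ∃ i, q = 8 * i + q % 8 := ⟨q / 8, (Nat.div_add_mod q 8).symm⟩ <;>
      rw [h] at hi <;> rw [hi]
    · exact ⟨(8 * i + 3) * ((4 * i + 1) * (2 * i + 1)), by rw [show 8 * i + 3 - 1 = 8 * i + 2 by omega]; ring,
        (Nat.odd_iff.2 (by omega)).mul ((Nat.odd_iff.2 (by omega)).mul (Nat.odd_iff.2 (by omega)))⟩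
    · exact ⟨(8 * i + 5) * ((2 * i + 1) * (4 * i + 3)), by rw [show 8 * i + 5 - 1 = 8 * i + 4 by omega]; ring,
        (Nat.odd_iff.2 (by omega)).mul ((Nat.odd_iff.2 (by omega)).mul (Nat.odd_iff.2 (by omega)))⟩
  rw [hk.1] at hcard
  exact CfsgLib.SU.card_sylow_two (k := 2) (show Nat.card G = 2 ^ 2 * k by omega) hk.2 S

open CfsgLib.Char.J1 in
theorem j1_six : mulC xC (eightC (sevenPts.getD 6 0)) = mulC (eightC (sevenPts.getD 0 0)) xC := by decide +kernel

theorem eight_add_self : ∀ q : ZMod 2 × ZMod 2 × ZMod 2, q + q = 0 := by decide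

theorem eight_ne : ((0, 0, 1) : ZMod 2 × ZMod 2 × ZMod 2) ≠ 0 ∧ ((1, 0, 1) : ZMod 2 × ZMod 2 × ZMod 2) ≠ 0 ∧
    ((0, 0, 1) : ZMod 2 × ZMod 2 × ZMod 2) ≠ (1, 0, 1) := by decide

attribute [local instance] CfsgLib.Char.J1.finite_J1

open CfsgLib.Char.J1 in
/-- The first Janko group. -/
theorem hasTData_j1 {G : Type*} [Group G] [Finite G] (h : Cfsg.IsJ1 G) : HasTData G := by
  haveI := h.1
  haveI : IsSimpleGroup ↥Cfsg.Spor.J1 := simple_J1
  haveI : Fact (Nat.Prime 2) := ⟨Nat.prime_two⟩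
  obtain ⟨e⟩ := Cfsg.Agent.S4273.result (G := ↥Cfsg.Spor.J1) (H := G) card_eq h.2
  refine HasTData.congr ?_ e
  let P : Sylow 2 ↥Cfsg.Spor.J1 := Sylow.ofCard eightHom.range (by
    rw [card_eq, show (175560 : ℕ) = 2 ^ 3 * 21945 from rfl, Nat.factorization_mul (by norm_num) (by norm_num),
      Nat.prime_two.factorization_pow, Finsupp.add_apply, Finsupp.single_eq_same,
      Nat.factorization_eq_zero_of_not_dvd (by norm_num),
      ← Nat.card_congr (MonoidHom.ofInjective eightHom_injective).toEquiv]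
    simp)
  have h6 := j1_six
  have hstep : ∀ i : Fin 7, ∃ j : Fin 7,
      genX * eightE (sevenPts.getD i 0) * genX⁻¹ = eightE (sevenPts.getD j 0) := by
    intro i
    by_cases hi : (i : ℕ) < 6
    · refine ⟨⟨i + 1, by omega⟩, ?_⟩
      rw [mul_inv_eq_iff_eq_mul]
      exact code_injective (by
        rw [code_mul, code_mul, code_eightE, code_eightE, code_genX]; exact seven_check ⟨i, hi⟩)
    · refine ⟨0, ?_⟩
      rw [mul_inv_eq_iff_eq_mul, show (i : ℕ) = 6 by omega]
      exact code_injective (by rw [code_mul, code_mul, code_eightE, code_eightE, code_genX]; exact h6)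
  have hone : eightE 0 = 1 := map_one eightHom
  have hmem : ∀ s ∈ eightHom.range, s = 1 ∨ ∃ i : Fin 7, eightE (sevenPts.getD i 0) = s := by
    rintro _ ⟨p, rfl⟩
    by_cases hp : p.toAdd = 0
    · left; show eightE p.toAdd = 1; rw [hp, hone]
    · obtain ⟨i, hi⟩ := seven_cover _ hp
      exact Or.inr ⟨i, by rw [hi]; rfl⟩
  have hin : ∀ p, eightE p ∈ eightHom.range := fun p => ⟨Multiplicative.ofAdd p, rfl⟩
  refine hasTData_of (S := P) (τ := genX) (TData.of_orbit (a₀ := eightE (sevenPts.getD 0 0)) ?_ ?_ ?_ ?_)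
  · intro s hs
    rcases hmem s hs with rfl | ⟨i, rfl⟩
    · rw [mul_one, mul_inv_cancel]; exact one_mem _
    · obtain ⟨j, hj⟩ := hstep i
      rw [hj]; exact hin _
  · rintro _ ⟨p, rfl⟩
    rw [← map_mul, ← map_one eightHom]
    refine congrArg _ (Multiplicative.toAdd.injective ?_)
    exact eight_add_self p.toAdd
  · have hne : ∀ a b, a ≠ b → eightE a ≠ eightE b := fun a b hab e =>
      hab (Multiplicative.ofAdd.injective (eightHom_injective (a₁ := Multiplicative.ofAdd a) (a₂ := Multiplicative.ofAdd b) e))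
    exact ⟨_, hin (0, 0, 1), _, hin (1, 0, 1), hone ▸ hne _ 0 eight_ne.1, hone ▸ hne _ 0 eight_ne.2.1,
      hne _ _ eight_ne.2.2⟩
  · intro s hs hs1
    obtain ⟨i, rfl⟩ := (hmem s hs).resolve_left hs1
    refine ⟨i, ?_⟩
    have key : ∀ k : ℕ, k < 7 → genX ^ k * eightE (sevenPts.getD 0 0) * (genX ^ k)⁻¹ = eightE (sevenPts.getD k 0) := by
      intro k
      induction k with
      | zero => intro _; simp
      | succ k ih =>
        intro hk
        rw [show genX ^ (k + 1) * eightE (sevenPts.getD 0 0) * (genX ^ (k + 1))⁻¹ =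
          genX * (genX ^ k * eightE (sevenPts.getD 0 0) * (genX ^ k)⁻¹) * genX⁻¹ by rw [pow_succ']; group,
          ih (by omega), mul_inv_eq_iff_eq_mul]
        exact code_injective (by
          rw [code_mul, code_mul, code_eightE, code_eightE, code_genX]; exact seven_check ⟨k, by omega⟩)
    exact key i i.isLt

end CfsgLib.CycInter
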