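import Cfsg.Agent.Lib.Invol.CyclicInter.Orbit
import Cfsg.Agent.Lib.Fusion.FrakL.Suzuki
import Cfsg.Agent.Lib.Lie.Suz.Sub.Norm

/-!
# The Suzuki groups
-/

set_option autoImplicit false
set_option linter.unusedSectionVars false
set_option linter.style.haveILetI false

namespace CfsgLib.CycInter

open Subgroup CfsgLib.Lie.Suz

/-- The Suzuki groups. -/
theorem hasTData_sz {F : Type} [Field F] [Fintype F] {m : ℕ} (hm : 1 ≤ m)
    (hF : Fintype.card F = 2 ^ (2 * m + 1)) : HasTData (Cfsg.Sz F m) := by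
  classical
  have hS := isSuzField hF
  haveI : CharP F 2 := charP_of_card_eq_prime_pow (f := 2 * m + 1) hF
  obtain ⟨P, hP⟩ := CfsgLib.Fusion.FrakL.exists_sylow_U hm hF
  obtain ⟨k₀, hk₀⟩ := IsCyclic.exists_generator (α := Fˣ)
  refine hasTData_of (S := P) (τ := HS hF k₀) ?_
  rw [hP]
  have hmem : ∀ s ∈ U hF, ∃ a b, s = TS hF a b := by
    rintro s ⟨a, b, h⟩
    exact ⟨a, b, Subtype.ext h⟩
  have hpow : ∀ j : ℕ, (HS hF k₀ : Cfsg.Sz F m) ^ j = HS hF (k₀ ^ j) := by
    intro j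
    induction j with
    | zero => rw [pow_zero, pow_zero]; exact (Subtype.ext H_one).symm
    | succ j ih => rw [pow_succ, ih, pow_succ]; exact (Subtype.ext (H_mul _ _)).symm
  have hsq : ∀ a b : F, TS hF a b * TS hF a b = (1 : Cfsg.Sz F m) → a = 0 := fun a b h => by
    rw [TS_sq' hF, ← TS_zero' hF] at h
    rcases mul_eq_zero.1 (TS_inj hF h).2 with e | e
    · exact th_eq_zero hS e
    · exact e
  have hcomm : ∀ a b c : F, (TS hF a b : Cfsg.Sz F m) * TS hF 0 c = TS hF 0 c * TS hF a b := fun a b c =>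
    (Subtype.ext (T_zero_comm hS a b c)).symm
  have horb : ∀ z ∈ U hF, z * z = (1 : Cfsg.Sz F m) → z ≠ 1 →
      ∃ j : ℕ, HS hF k₀ ^ j * TS hF 0 1 * (HS hF k₀ ^ j)⁻¹ = z := by
    intro z hz hzz hz1
    obtain ⟨a, b, rfl⟩ := hmem z hz
    obtain rfl := hsq a b hzz
    have hb : b ≠ 0 := fun e => hz1 (by rw [e, TS_zero' hF])
    obtain ⟨k, hk⟩ := exists_kth_eq hF hb
    obtain ⟨j, rfl⟩ := (Submonoid.mem_powers_iff k k₀).1 (mem_powers_iff_mem_zpowers.2 (hk₀ k))
    exact ⟨j, by rw [hpow, H_conj_T hF, mul_zero, mul_one, hk]⟩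
  refine ⟨normal_of_conj_le ?_, ?_, ?_, ?_, ?_⟩
  · intro s hs
    obtain ⟨a, b, rfl⟩ := hmem s hs
    rw [H_conj_T hF]
    exact TS_mem_U hF _ _
  · intro z hz hzz s hs
    obtain ⟨a, b, rfl⟩ := hmem z hz
    obtain rfl := hsq a b hzz
    obtain ⟨c, d, rfl⟩ := hmem s hs
    exact hcomm c d b
  · obtain ⟨c, hc0, hc1⟩ : ∃ c : F, c ≠ 0 ∧ c ≠ 1 := by
      obtain ⟨c, hc⟩ := exists_th_ne hm hF
      exact ⟨c, fun e => hc (by rw [e, th_zero hS]), fun e => hc (by rw [e, th_one hS])⟩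
    have hz : ∀ c : F, (TS hF 0 c : Cfsg.Sz F m) * TS hF 0 c = 1 := fun c => by
      rw [TS_sq' hF, mul_zero, TS_zero' hF]
    refine ⟨TS hF 0 1, TS_mem_U hF _ _, TS hF 0 c, TS_mem_U hF _ _, hz 1, hz c, ?_, ?_, ?_⟩
    · rw [← TS_zero' hF]; exact fun e => one_ne_zero (TS_inj hF e).2
    · rw [← TS_zero' hF]; exact fun e => hc0 (TS_inj hF e).2
    · exact fun e => hc1 (TS_inj hF e).2.symm
  · exact fun a ha b hb haa hbb ha1 hb1 => trans_of_orbit (horb a ha haa ha1) (horb b hb hbb hb1)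
  intro α _ hfix hc x
  let X : F → F → ↥(U hF : Subgroup (Cfsg.Sz F m)) := fun a b => ⟨TS hF a b, TS_mem_U hF a b⟩
  have hX : ∀ w : ↥(U hF : Subgroup (Cfsg.Sz F m)), ∃ a b, w = X a b := fun w => by
    obtain ⟨a, b, h⟩ := hmem w w.2
    exact ⟨a, b, Subtype.ext h⟩
  have hXmul : ∀ a b a' b', X a b * X a' b' = X (a + a') (b + b' + th m a * a') := fun a b a' b' =>
    Subtype.ext (TS_mul' hF a b a' b')
  have hXinj : ∀ {a b a' b'}, X a b = X a' b' → a = a' ∧ b = b' := fun h => TS_inj hF (congrArg Subtype.val h)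
  have hXone : X 0 0 = 1 := Subtype.ext (TS_zero' hF)
  have hα0 : ∀ b, α (X 0 b) = X 0 b := fun b => hfix _ (by
    rw [hXmul, th_zero hS, zero_mul, add_zero, add_zero, CharTwo.add_self_eq_zero, hXone])
  choose A B hAB using fun a : F => hX (α (X a 0))
  have hA : ∀ a, A a = a := by
    intro a
    have h := congrArg α (hXmul a 0 a 0)
    rw [map_mul, hAB, hXmul, CharTwo.add_self_eq_zero a, hα0] at h
    have h2 := (hXinj h).2
    rw [CharTwo.add_self_eq_zero, zero_add, add_zero, zero_add] at h2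
    by_cases ha : a = 0
    · subst ha
      rw [th_zero hS, zero_mul] at h2
      rcases mul_eq_zero.1 h2 with e | e
      · exact th_eq_zero hS e
      · exact e
    · by_cases hA0 : A a = 0
      · rw [hA0, mul_zero] at h2
        rcases mul_eq_zero.1 h2.symm with e | e
        · exact absurd (th_eq_zero hS e) ha
        · exact absurd e ha
      · exact congrArg Units.val (kth_injective hS (a₁ := Units.mk0 _ hA0) (a₂ := Units.mk0 a ha) h2)
  have hAB' : ∀ a, α (X a 0) = X a (B a) := fun a => by rw [hAB, hA]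
  have hstep : ∀ a, B ((k₀ : F) * a) = th m (k₀ : F) * k₀ * B a := by
    intro a
    have h := hc (X a 0) (X ((k₀ : F) * a) 0) (by
      show (TS hF _ 0 : Cfsg.Sz F m) = _
      rw [H_conj_T hF, mul_zero])
    rw [hAB', hAB'] at h
    replace h : (TS hF ((k₀ : F) * a) (B ((k₀ : F) * a)) : Cfsg.Sz F m) = HS hF k₀ * TS hF a (B a) * (HS hF k₀)⁻¹ := h
    rw [H_conj_T hF] at h
    exact (TS_inj hF h).2
  have hB0 : B 0 = 0 := by
    have h := hAB' 0
    rw [hα0] at h
    exact (hXinj h).2.symm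
  have hBform : ∀ a, B a = th m a * a * B 1 := by
    intro a
    by_cases ha : a = 0
    · rw [ha, hB0, mul_zero, zero_mul]
    obtain ⟨j, hj⟩ := (Submonoid.mem_powers_iff (Units.mk0 a ha) k₀).1 (mem_powers_iff_mem_zpowers.2 (hk₀ _))
    have hj' : (k₀ : F) ^ j = a := by rw [← Units.val_pow_eq_pow_val, hj, Units.val_mk0]
    rw [← hj']
    clear hj hj'
    induction j with
    | zero => rw [pow_zero, th_one hS, one_mul, one_mul]
    | succ j ih => rw [pow_succ', hstep, ih, th_mul hS]; ring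
  have hadd : ∀ a a', B (a + a') = B a + B a' := by
    intro a a'
    have e : X a 0 * X a' 0 = X (a + a') 0 * X 0 (th m a * a') := by
      rw [hXmul, hXmul, add_zero, zero_add, add_zero, mul_zero, add_zero]
    have h := congrArg α e
    rw [map_mul, map_mul, hAB', hAB', hAB', hα0, hXmul, hXmul] at h
    have h2 := (hXinj h).2
    rw [mul_zero, add_zero] at h2
    exact (add_right_cancel h2).symm
  have hB1 : B 1 = 0 := by
    obtain ⟨a, ha⟩ := exists_th_ne hm hF
    have h := hadd a 1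
    rw [hBform (a + 1), hBform a, th_add hS, th_one hS] at h
    by_contra hne
    refine ha (CharTwo.add_eq_zero.1 (mul_right_cancel₀ hne (a := th m a + a) (c := 0) ?_))
    rw [zero_mul]
    linear_combination h
  obtain ⟨a, b, rfl⟩ := hX x
  have e : X a b = X a 0 * X 0 b := by
    rw [hXmul, add_zero, zero_add, mul_zero, add_zero]
  rw [e, map_mul, hα0, hAB', hBform, hB1, mul_zero]

end CfsgLib.CycInter
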