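import Cfsg.Agent.Lib.Invol.CyclicInter.Orbit
import Cfsg.Agent.Lib.SU.UnitalModel
import Cfsg.Agent.Lib.SU.Borel
import Cfsg.Agent.Lib.Bender.Suzuki.Model

/-!
# The unitary groups in three dimensions
-/

set_option autoImplicit false
set_option linter.unusedSectionVars false
set_option linter.style.haveILetI false

namespace CfsgLib.CycInter

open Subgroup Matrix CfsgLib.SU CfsgLib.SU.HermAut

variable {F : Type*} [Field F] [Finite F] [CharP F 2]

/-- A subfield with more than `q` elements of a field of `q²` elements is everything. -/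
theorem subfield_eq_top {q : ℕ} (hF : Nat.card F = q ^ 2) {K : Subfield F} (hK : q < Nat.card ↥K) : K = ⊤ := by
  have hd : Nat.card F = Nat.card ↥K ^ Module.finrank ↥K F := Module.natCard_eq_pow_finrank
  rcases Nat.lt_or_ge (Module.finrank ↥K F) 2 with h | h
  · have hpos : 0 < Module.finrank ↥K F := Module.finrank_pos
    rw [show Module.finrank ↥K F = 1 by omega, pow_one] at hd
    refine eq_top_iff.2 fun x _ => ?_
    obtain ⟨w, hw⟩ := ((Function.Injective.bijective_of_nat_card_le (f := ((↑) : ↥K → F))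
      Subtype.val_injective hd.le).2 x)
    exact hw ▸ w.2
  · exfalso
    have h2 : Nat.card ↥K ^ 2 ≤ q ^ 2 := by
      rw [← hF, hd]
      exact Nat.pow_le_pow_right Nat.card_pos h
    exact absurd h2 (not_le.2 (Nat.pow_lt_pow_left hK two_ne_zero))

/-- The powers of a generator used for the torus. -/
structure Gen (bar : F →+* F) (q : ℕ) (y : F) : Prop where
  four : 4 ≤ q
  card : Nat.card F = q ^ 2
  bar_eq : ∀ x, bar x = x ^ q
  ne : y ≠ 0
  order : orderOf y = q ^ 2 - 1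
  gen : ∀ x : F, x ≠ 0 → ∃ i : ℕ, y ^ i = x

variable {bar : F →+* F} {q : ℕ} {y : F}

theorem Gen.order_lam (h : Gen bar q y) : q ^ 2 - 1 ∣ 3 * orderOf (bar y ^ 2 / y) := by
  set o := orderOf (bar y ^ 2 / y)
  have h4 := h.four
  obtain ⟨r, rfl⟩ : ∃ r, q = r + 1 := ⟨q - 1, by omega⟩
  have e : bar y ^ 2 / y = y ^ (2 * r + 1) := by
    rw [h.bar_eq, div_eq_iff h.ne, ← pow_mul, ← pow_succ]
    congr 1
    ring
  have h1 : (r + 1) ^ 2 - 1 ∣ (2 * r + 1) * o := by
    rw [← h.order]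
    refine orderOf_dvd_of_pow_eq_one ?_
    rw [pow_mul, ← e]
    exact pow_orderOf_eq_one _
  have hN : (r + 1) ^ 2 - 1 = r * r + 2 * r := by
    rw [show (r + 1) ^ 2 = r * r + 2 * r + 1 by ring, Nat.add_sub_cancel]
  rw [hN] at h1 ⊢
  have h2 : r * r + 2 * r ∣ 4 * (r * r + 2 * r) * o + 3 * o := by
    rw [show 4 * (r * r + 2 * r) * o + 3 * o = (2 * r + 3) * ((2 * r + 1) * o) by ring]
    exact h1.mul_left _
  exact (Nat.dvd_add_right (Dvd.dvd.mul_right (dvd_mul_left _ 4) o)).1 h2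

/-- An automorphism of order two commuting with the torus and fixing the centre is trivial. -/
theorem rigid_unital {T : Type*} [Group T] (U : Unital T F) (h : Gen U.bar q y) (δ : T →* T)
    (hpi : ∀ x, U.pi (δ x) = U.bar y ^ 2 / y * U.pi x)
    (htau : ∀ z, U.pi z = 0 → U.tau (δ z) = y * U.bar y * U.tau z)
    (α : T ≃* T) (h2 : ∀ x, α (α x) = x) (hfix : ∀ z, U.pi z = 0 → α z = z)
    (hc : ∀ x, α (δ x) = δ (α x)) : ∀ x, α x = x := by
  set l := U.bar y ^ 2 / y with hl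
  have hlne : l ≠ 0 := div_ne_zero (pow_ne_zero _ ((map_ne_zero_iff _ U.bar.injective).2 h.ne)) h.ne
  set μ := U.lmap α with hμ
  have hμl : ∀ a, μ (l * a) = l * μ a := fun a => by
    obtain ⟨x, rfl⟩ := U.exists_pi a
    rw [hμ, ← hpi, ← U.pi_apply, ← U.pi_apply, hc, hpi]
  have hμ0 : μ 0 = 0 := by
    have := U.lmap_add α 0 0
    rw [add_zero] at this
    exact left_eq_add.1 this
  have hμadd : ∀ a b, μ (a + b) = μ a + μ b := U.lmap_add α
  let K : Subfield F :=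
    { carrier := {c | ∀ x, μ (c * x) = c * μ x}
      one_mem' := fun x => by rw [one_mul, one_mul]
      mul_mem' := fun {a b} ha hb x => by rw [mul_assoc, ha, hb, ← mul_assoc]
      add_mem' := fun {a b} ha hb x => by rw [add_mul, hμadd, ha, hb, add_mul]
      zero_mem' := fun x => by rw [zero_mul, zero_mul, hμ0]
      neg_mem' := fun {a} ha x => by rw [CharTwo.neg_eq, ha]
      inv_mem' := fun a ha x => by
        rcases eq_or_ne a 0 with rfl | hne
        · rw [_root_.inv_zero, zero_mul, zero_mul, hμ0]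
        · conv_rhs => rw [show x = a * (a⁻¹ * x) by rw [mul_inv_cancel_left₀ hne], ha, inv_mul_cancel_left₀ hne] }
  have hlK : l ∈ K := hμl
  have h4 := h.four
  have hN : 3 * q ≤ q ^ 2 + 1 := by nlinarith
  have hfin : 0 < orderOf l := orderOf_pos_iff.2 (isOfFinOrder_iff_pow_eq_one.2 ⟨q ^ 2 - 1, by omega, by
    obtain ⟨i, hi⟩ := h.gen l hlne
    rw [← hi, ← pow_mul, mul_comm, pow_mul, ← h.order, pow_orderOf_eq_one, one_pow]⟩)
  have ho : q ^ 2 - 1 ≤ 3 * orderOf l := Nat.le_of_dvd (by omega) h.order_lam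
  have hK : K = ⊤ := by
    refine subfield_eq_top h.card ?_
    let f : Option (Fin (orderOf l)) → ↥K
      | none => 0
      | some i => ⟨l ^ (i : ℕ), pow_mem hlK _⟩
    have hf : Function.Injective f := by
      intro a b e
      rcases a with _ | a <;> rcases b with _ | b
      · rfl
      · exact absurd (congrArg Subtype.val e).symm (pow_ne_zero _ hlne)
      · exact absurd (congrArg Subtype.val e) (pow_ne_zero _ hlne)
      · exact congrArg some (Fin.ext (pow_injOn_Iio_orderOf a.isLt b.isLt (congrArg Subtype.val e)))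
    have := Nat.card_le_card_of_injective f hf
    rw [Nat.card_eq_fintype_card, Fintype.card_option, Fintype.card_fin] at this
    omega
  have hμlin : ∀ a, μ a = a * μ 1 := fun a => by
    have := (hK ▸ Subfield.mem_top a : a ∈ K) 1
    rwa [mul_one] at this
  have hμ1 : μ 1 = 1 := by
    obtain ⟨x, hx⟩ := U.exists_pi 1
    have h1 : μ (μ 1) = 1 := by rw [hμ, ← hx, ← U.pi_apply, ← U.pi_apply, h2]
    rw [hμlin (μ 1)] at h1
    exact CharTwo.add_eq_zero.1 (mul_self_eq_zero.1 (by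
      linear_combination h1 + (μ 1 + 1) * (CharTwo.two_eq_zero : (2 : F) = 0)))
  have hpiα : ∀ x, U.pi (α x) = U.pi x := fun x => by rw [U.pi_apply, ← hμ, hμlin, hμ1, mul_one]
  let c : T → T := fun x => x⁻¹ * α x
  have hcπ : ∀ x, U.pi (c x) = 0 := fun x => by
    rw [U.pi_mul, U.pi_inv, hpiα, CharTwo.add_self_eq_zero]
  have hcc : ∀ x z, U.pi (x) = 0 → z * x = x * z := fun x z hx =>
    Subgroup.mem_center_iff.1 (U.mem_center_iff.2 hx) z
  have hcmul : ∀ x x', c (x * x') = c x * c x' := fun x x' => by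
    show (x * x')⁻¹ * α (x * x') = c x * c x'
    calc (x * x')⁻¹ * α (x * x') = x'⁻¹ * c x * α x' := by rw [map_mul]; show _ = x'⁻¹ * (x⁻¹ * α x) * α x'; group
      _ = c x * c x' := by rw [hcc (c x) x'⁻¹ (hcπ x)]; show _ = c x * (x'⁻¹ * α x'); group
  have hcz : ∀ z, U.pi z = 0 → c z = 1 := fun z hz => by show z⁻¹ * α z = 1; rw [hfix z hz, inv_mul_cancel]
  choose s hs using U.exists_pi
  let φ : F → F := fun a => U.tau (c (s a))
  have hφ : ∀ x, U.tau (c x) = φ (U.pi x) := fun x => by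
    have e : x = s (U.pi x) * ((s (U.pi x))⁻¹ * x) := by group
    conv_lhs => rw [e, hcmul, hcz ((s (U.pi x))⁻¹ * x) (by rw [U.pi_mul, U.pi_inv, hs, CharTwo.add_self_eq_zero]), mul_one]
  have hφadd : ∀ a b, φ (a + b) = φ a + φ b := fun a b => by
    have := hφ (s a * s b)
    rw [U.pi_mul, hs, hs, hcmul, U.tau_mul, hcπ, zero_mul, add_zero] at this
    exact this.symm
  have hφl : ∀ a, φ (l * a) = y * U.bar y * φ a := fun a => by
    have h1 := hφ (δ (s a))
    have e : c (δ (s a)) = δ (c (s a)) := by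
      show (δ (s a))⁻¹ * α (δ (s a)) = δ ((s a)⁻¹ * α (s a))
      rw [hc, map_mul, map_inv]
    rw [hpi, hs, e, htau _ (hcπ _)] at h1
    exact h1.symm
  have hν : (y * U.bar y) ^ (q - 1) = 1 := by
    obtain ⟨r, rfl⟩ : ∃ r, q = r + 1 := ⟨q - 1, by omega⟩
    rw [h.bar_eq, ← pow_succ', ← pow_mul, Nat.add_sub_cancel]
    rw [show (r + 1 + 1) * r = (r + 1) ^ 2 - 1 by
      rw [show (r + 1) ^ 2 = (r + 1 + 1) * r + 1 by ring, Nat.add_sub_cancel], ← h.order, pow_orderOf_eq_one]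
  have hφk : ∀ j a, φ (l ^ j * a) = (y * U.bar y) ^ j * φ a := by
    intro j
    induction j with
    | zero => intro a; simp
    | succ j ih => intro a; rw [pow_succ', mul_assoc, hφl, ih, pow_succ', ← mul_assoc]
  have hk1 : l ^ (q - 1) ≠ 1 := fun e => by
    have h5 := Nat.le_of_dvd (by omega) (orderOf_dvd_of_pow_eq_one e)
    have h6 : 5 * (q - 1) ≤ q ^ 2 - 1 := by
      obtain ⟨r, rfl⟩ : ∃ r, q = r + 1 := ⟨q - 1, by omega⟩
      rw [show (r + 1) ^ 2 = r * r + 2 * r + 1 by ring, Nat.add_sub_cancel, Nat.add_sub_cancel]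
      nlinarith
    omega
  have hφ0 : ∀ a, φ a = 0 := by
    intro a
    have hne : l ^ (q - 1) + 1 ≠ 0 := fun e => hk1 (CharTwo.add_eq_zero.1 e)
    have h1 := hφadd (l ^ (q - 1) * (a / (l ^ (q - 1) + 1))) (a / (l ^ (q - 1) + 1))
    rw [hφk, hν, one_mul, CharTwo.add_self_eq_zero] at h1
    rwa [show l ^ (q - 1) * (a / (l ^ (q - 1) + 1)) + a / (l ^ (q - 1) + 1) = a by field_simp] at h1
  intro x
  have hcx : c x = 1 := U.coord_ext _ _ ((hcπ x).trans U.pi_one.symm) (by rw [hφ, hφ0, U.tau_one])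
  exact (eq_of_inv_mul_eq_one hcx).symm

/-- The Eichler group with the torus. -/
theorem exists_unital_diag {F : Type*} [Field F] [Fintype F] [CharP F 2] {q : ℕ} {C : UCtx F q} (P : UPair C 3)
    {y : F} (hy : y ≠ 0) :
    ∃ (U : Unital P.eichGroup F) (L : ↥(Cfsg.SU 3 F q)) (hL : ∀ X ∈ P.eichGroup, L * X * L⁻¹ ∈ P.eichGroup),
      (∀ x, U.bar x = x ^ q) ∧ (∀ X, U.pi ⟨L * X.1 * L⁻¹, hL _ X.2⟩ = U.bar y ^ 2 / y * U.pi X) ∧
      ∀ X, U.pi X = 0 → U.tau ⟨L * X.1 * L⁻¹, hL _ X.2⟩ = y * U.bar y * U.tau X := by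
  obtain ⟨u, hu, huu, hub⟩ := P.exists_basis
  haveI : Subsingleton (Fin (3 - 2)) := inferInstanceAs (Subsingleton (Fin 1))
  set u₀ := u 0 with hu₀
  have h00 : C.form u₀ u₀ = 1 := by rw [hu₀, huu, if_pos rfl]
  have hperp : ∀ w ∈ P.perp, w = C.form w u₀ • u₀ := fun w hw => by
    conv_lhs => rw [hub w hw]
    exact Fintype.sum_subsingleton _ _
  have hform : ∀ w ∈ P.perp, ∀ w' ∈ P.perp,
      C.form w w' = C.form w u₀ * C.bar (C.form w' u₀) := fun w hw w' hw' => by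
    conv_lhs => rw [hperp w hw, hperp w' hw']
    rw [C.form_smul_left, C.form_smul_right, h00, mul_one]
  let pi : P.eichGroup → F := fun X => C.form (X.1.1.1 *ᵥ P.f) u₀
  let tau : P.eichGroup → F := fun X => C.form (X.1.1.1 *ᵥ P.f) P.f
  have hval : ∀ w hw t ht, pi ⟨P.eich w hw t ht, P.eich_mem w hw t ht⟩ = C.form w u₀ ∧
      tau ⟨P.eich w hw t ht, P.eich_mem w hw t ht⟩ = t := fun w hw t ht => by
    constructor
    · show C.form ((P.eich w hw t ht).1.1 *ᵥ P.f) u₀ = _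
      rw [P.eich_f, C.form_add_left, C.form_add_left, C.form_smul_left,
        C.form_swap_zero (hu 0).2, C.form_swap_zero (hu 0).1]
      simp
    · show C.form ((P.eich w hw t ht).1.1 *ᵥ P.f) P.f = _
      rw [P.eich_f, C.form_add_left, C.form_add_left, C.form_smul_left, P.ff, P.ef, hw.2]
      simp
  obtain ⟨L, hd, hLw⟩ := P.exists_diag (hu 0) h00 hy
  have hL : ∀ X ∈ P.eichGroup, L * X * L⁻¹ ∈ P.eichGroup := by
    rintro _ ⟨w, hw, t, ht, rfl⟩
    obtain ⟨ht', e⟩ := hd.conj_eich hw ht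
    exact ⟨_, _, _, _, e⟩
  refine ⟨⟨C.bar.toRingHom, C.bar_bar, C.exists_not_fixed, pi, tau, ?_, ?_, ?_, ?_, ?_⟩, L, hL, C.bar_eq, ?_, ?_⟩
  · rintro ⟨_, w, hw, t, ht, rfl⟩
    rw [(hval w hw t ht).1, (hval w hw t ht).2]
    exact (congrArg (t + C.bar t + ·) (hform w hw w hw).symm).trans ht
  · rintro ⟨_, w, hw, t, ht, rfl⟩ ⟨_, w', hw', t', ht', rfl⟩
    rw [(hval w hw t ht).1, (hval w' hw' t' ht').1,
      show (⟨P.eich w hw t ht, P.eich_mem w hw t ht⟩ : P.eichGroup) *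
          ⟨P.eich w' hw' t' ht', P.eich_mem w' hw' t' ht'⟩ =
        ⟨_, P.eich_mem _ (P.perp.add_mem hw hw') _ (P.eich_cond_mul ht ht')⟩ from
          Subtype.ext (P.eich_mul w w' hw hw' t t' ht ht'), (hval _ _ _ _).1, C.form_add_left]
  · rintro ⟨_, w, hw, t, ht, rfl⟩ ⟨_, w', hw', t', ht', rfl⟩
    rw [(hval w hw t ht).1, (hval w' hw' t' ht').1, (hval w hw t ht).2, (hval w' hw' t' ht').2,
      show (⟨P.eich w hw t ht, P.eich_mem w hw t ht⟩ : P.eichGroup) *
          ⟨P.eich w' hw' t' ht', P.eich_mem w' hw' t' ht'⟩ =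
        ⟨_, P.eich_mem _ (P.perp.add_mem hw hw') _ (P.eich_cond_mul ht ht')⟩ from
          Subtype.ext (P.eich_mul w w' hw hw' t t' ht ht'), (hval _ _ _ _).2, hform w' hw' w hw]
    exact CharTwo.sub_eq_add _ _
  · rintro ⟨_, w, hw, t, ht, rfl⟩ ⟨_, w', hw', t', ht', rfl⟩ h1 h2
    rw [(hval w hw t ht).1, (hval w' hw' t' ht').1] at h1
    rw [(hval w hw t ht).2, (hval w' hw' t' ht').2] at h2
    exact Subtype.ext (P.eich_congr (hw := hw) (hw' := hw') (ht := ht) (ht' := ht')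
      (by rw [hperp w hw, hperp w' hw', h1]) h2)
  · intro a t ht
    have hm : a • u₀ ∈ P.perp := P.perp.smul_mem a (hu 0)
    have ha : C.form (a • u₀) u₀ = a := by rw [C.form_smul_left, h00, mul_one]
    have ht' : t + C.bar t + C.form (a • u₀) (a • u₀) = 0 := by
      rw [hform _ hm _ hm, ha]
      exact ht
    exact ⟨⟨_, P.eich_mem _ hm t ht'⟩, (hval _ hm t ht').1.trans ha, (hval _ hm t ht').2⟩
  · rintro ⟨_, w, hw, t, ht, rfl⟩
    obtain ⟨ht', e⟩ := hd.conj_eich hw ht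
    show pi ⟨_, _⟩ = C.bar y ^ 2 / y * pi _
    rw [show (⟨L * P.eich w hw t ht * L⁻¹, hL _ (P.eich_mem w hw t ht)⟩ : P.eichGroup) =
      ⟨_, P.eich_mem _ (hd.mem hw) _ ht'⟩ from Subtype.ext e, (hval _ _ _ _).1, (hval _ _ _ _).1, hLw w hw,
      C.form_add_left, C.form_smul_left, C.form_smul_left, h00]
    ring
  · rintro ⟨_, w, hw, t, ht, rfl⟩ -
    obtain ⟨ht', e⟩ := hd.conj_eich hw ht
    show tau ⟨_, _⟩ = y * C.bar y * tau _
    rw [show (⟨L * P.eich w hw t ht * L⁻¹, hL _ (P.eich_mem w hw t ht)⟩ : P.eichGroup) =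
      ⟨_, P.eich_mem _ (hd.mem hw) _ ht'⟩ from Subtype.ext e, (hval _ _ _ _).2, (hval _ _ _ _).2]

open CfsgLib.Classical CfsgLib.Bender.Suzuki in
/-- The unitary groups. -/
theorem hasTData_psu {F : Type} [Field F] [Fintype F] {n : ℕ} (hn : 2 ≤ n) (hF : Fintype.card F = (2 ^ n) ^ 2) :
    HasTData (Cfsg.PSU 3 F (2 ^ n)) := by
  classical
  haveI : Fact (Nat.Prime 2) := ⟨Nat.prime_two⟩
  haveI : CharP F 2 := charP_of_card_eq_prime_pow (f := n * 2) (by rw [hF, ← pow_mul])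
  obtain ⟨C⟩ := uctx_exists hF
  obtain ⟨P⟩ := C.exists_pair (n := 3) (by norm_num)
  obtain ⟨g, hg⟩ := IsCyclic.exists_generator (α := Fˣ)
  obtain ⟨U, L, hL, hbar, hpi, htau⟩ := exists_unital_diag P (y := (g : F)) g.ne_zero
  have hq4 : 4 ≤ 2 ^ n := by
    calc 4 = 2 ^ 2 := rfl
      _ ≤ _ := Nat.pow_le_pow_right (by norm_num) hn
  have hgen : Gen U.bar (2 ^ n) (g : F) := by
    refine ⟨hq4, by rw [Nat.card_eq_fintype_card, hF], hbar, g.ne_zero, ?_, fun x hx => ?_⟩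
    · rw [orderOf_units, orderOf_eq_card_of_forall_mem_zpowers hg, Nat.card_eq_fintype_card,
        Fintype.card_units, hF]
    · obtain ⟨i, hi⟩ := (Submonoid.mem_powers_iff (Units.mk0 x hx) g).1 (mem_powers_iff_mem_zpowers.2 (hg _))
      exact ⟨i, by rw [← Units.val_pow_eq_pow_val, hi, Units.val_mk0]⟩
  let δ : P.eichGroup →* P.eichGroup :=
    { toFun := fun X => ⟨L * X.1 * L⁻¹, hL _ X.2⟩
      map_one' := Subtype.ext (by show L * 1 * L⁻¹ = 1; group)
      map_mul' := fun X Y => Subtype.ext (by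
        show L * (X.1 * Y.1) * L⁻¹ = L * X.1 * L⁻¹ * (L * Y.1 * L⁻¹); group) }
  obtain ⟨z₀, hz₀π, hz₀τ⟩ := U.exists_tau (k := 1) (map_one _)
  have hδpow : ∀ j : ℕ, ∀ z : P.eichGroup, U.pi z = 0 → ∀ w : P.eichGroup, (w : ↥(Cfsg.SU 3 F (2 ^ n))) =
      L ^ j * z.1 * (L ^ j)⁻¹ → U.pi w = 0 ∧ U.tau w = ((g : F) * U.bar g) ^ j * U.tau z := by
    intro j
    induction j with
    | zero =>
      intro z hz w hw
      rw [pow_zero, one_mul, inv_one, mul_one] at hw
      rw [Subtype.ext hw, pow_zero, one_mul]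
      exact ⟨hz, rfl⟩
    | succ j ih =>
      intro z hz w hw
      have hm : L ^ j * z.1 * (L ^ j)⁻¹ ∈ P.eichGroup := by
        clear ih hw
        induction j with
        | zero => simpa using z.2
        | succ i ih' =>
          rw [show L ^ (i + 1) * z.1 * (L ^ (i + 1))⁻¹ = L * (L ^ i * z.1 * (L ^ i)⁻¹) * L⁻¹ by
            rw [pow_succ']; group]
          exact hL _ ih'
      obtain ⟨h1, h2⟩ := ih z hz ⟨_, hm⟩ rfl
      have e : w = δ ⟨_, hm⟩ := Subtype.ext (by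
        rw [hw, pow_succ']
        show L * L ^ j * z.1 * (L * L ^ j)⁻¹ = L * (L ^ j * z.1 * (L ^ j)⁻¹) * L⁻¹
        group)
      rw [e]
      refine ⟨(hpi _).trans (by rw [h1, mul_zero]), (htau _ h1).trans ?_⟩
      rw [h2, pow_succ']; ring
  have horb : ∀ z ∈ P.eichGroup, z * z = 1 → z ≠ 1 → ∃ j : ℕ, L ^ j * z₀.1 * (L ^ j)⁻¹ = z := by
    intro z hz hzz hz1
    have hπ : U.pi ⟨z, hz⟩ = 0 := U.mul_self_eq_one_iff.1 (Subtype.ext hzz)
    set k := U.tau ⟨z, hz⟩ with hk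
    have hk0 : k ≠ 0 := fun e => hz1 (congrArg Subtype.val
      (U.coord_ext ⟨z, hz⟩ 1 (hπ.trans U.pi_one.symm) (e.trans U.tau_one.symm)))
    have hkf : U.bar k = k := U.tau_fixed hπ
    obtain ⟨i, hi⟩ := hgen.gen k hk0
    obtain ⟨j, rfl⟩ : 2 ^ n + 1 ∣ i := by
      obtain ⟨r, hr⟩ : ∃ r, 2 ^ n = r + 1 := ⟨2 ^ n - 1, by omega⟩
      have e1 : (g : F) ^ (i * r) = 1 := by
        rw [← hi, hbar, ← pow_mul, hr, mul_add, mul_one, pow_add] at hkf
        exact mul_right_cancel₀ (pow_ne_zero i g.ne_zero) (hkf.trans (one_mul _).symm)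
      have h2 := orderOf_dvd_of_pow_eq_one e1
      rw [hgen.order, hr, show (r + 1) ^ 2 - 1 = (r + 1 + 1) * r by
        rw [show (r + 1) ^ 2 = (r + 1 + 1) * r + 1 by ring, Nat.add_sub_cancel]] at h2
      rw [hr]
      exact Nat.dvd_of_mul_dvd_mul_right (by omega) h2
    refine ⟨j, ?_⟩
    have hm : ∀ i : ℕ, L ^ i * z₀.1 * (L ^ i)⁻¹ ∈ P.eichGroup := fun i => by
      induction i with
      | zero => simpa using z₀.2
      | succ i ih' =>
        rw [show L ^ (i + 1) * z₀.1 * (L ^ (i + 1))⁻¹ = L * (L ^ i * z₀.1 * (L ^ i)⁻¹) * L⁻¹ by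
          rw [pow_succ']; group]
        exact hL _ ih'
    obtain ⟨h1, h2⟩ := hδpow j z₀ hz₀π ⟨_, hm j⟩ rfl
    refine congrArg Subtype.val (U.coord_ext ⟨_, hm j⟩ ⟨z, hz⟩ (h1.trans hπ.symm) ?_)
    rw [h2, hz₀τ, mul_one, ← hk, ← hi, hbar, ← pow_succ', pow_mul]
  have hdata : TData P.eichGroup L := by
    refine ⟨normal_of_conj_le hL, ?_, ?_, ?_, ?_⟩
    · intro z hz hzz s hs
      exact congrArg Subtype.val (Subgroup.mem_center_iff.1
        (U.mem_center_iff.2 (U.mul_self_eq_one_iff.1 (Subtype.ext hzz : (⟨z, hz⟩ : P.eichGroup) * ⟨z, hz⟩ = 1)))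
        ⟨s, hs⟩)
    · have hfix : U.bar ((g : F) * U.bar g) = (g : F) * U.bar g := by rw [map_mul, U.bar_bar, mul_comm]
      have hne1 : (g : F) * U.bar g ≠ 1 := fun e => by
        rw [hbar, ← pow_succ'] at e
        have h2 := Nat.le_of_dvd (by omega) (orderOf_dvd_of_pow_eq_one e)
        rw [hgen.order] at h2
        have : 4 * 2 ^ n ≤ (2 ^ n) ^ 2 := by rw [pow_two]; exact Nat.mul_le_mul_right _ hq4
        omega
      obtain ⟨z₁, h1, h1'⟩ := U.exists_tau hfix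
      have hsq : ∀ z : P.eichGroup, U.pi z = 0 → z.1 * z.1 = 1 := fun z hz =>
        congrArg Subtype.val (U.mul_self_eq_one_iff.2 hz)
      have hne : ∀ z : P.eichGroup, U.tau z ≠ 0 → z.1 ≠ 1 := fun z hz e => hz (by
        rw [show z = 1 from Subtype.ext e, U.tau_one])
      exact ⟨z₀.1, z₀.2, z₁.1, z₁.2, hsq _ hz₀π, hsq _ h1, hne _ (by rw [hz₀τ]; exact one_ne_zero),
        hne _ (by rw [h1']; exact mul_ne_zero g.ne_zero ((map_ne_zero_iff _ U.bar.injective).2 g.ne_zero)),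
        fun e => hne1 (by rw [← h1', ← hz₀τ, Subtype.ext e])⟩
    · exact fun a ha b hb haa hbb ha1 hb1 => trans_of_orbit (horb a ha haa ha1) (horb b hb hbb hb1)
    · intro α h2 hfix hc
      exact rigid_unital U hgen δ hpi htau α h2 (fun z hz => hfix z (U.mul_self_eq_one_iff.2 hz))
        fun X => Subtype.ext (hc X (δ X) rfl)
  have hcard : Nat.card P.eichGroup = 2 ^ (3 * n) := by
    rw [U.card_eq (q := 2 ^ n) (by rw [Nat.card_eq_fintype_card, hF]), ← pow_mul, mul_comm]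
  have hsu : Nat.card ↥(Cfsg.SU 3 F (2 ^ n)) =
      2 ^ (3 * n) * (((2 ^ n) ^ 2 - 1) * ((2 ^ n) ^ 3 + 1)) := by
    rw [card_su_three C hF, ← pow_mul 2 n 3, mul_comm n 3]
  have hodd := odd_cofactor (q := 2 ^ n) (Nat.even_pow.2 ⟨even_two, by omega⟩) (by positivity)
  let P₀ : Sylow 2 ↥(Cfsg.SU 3 F (2 ^ n)) := Sylow.ofCard P.eichGroup (by
    rw [hcard, hsu, Nat.factorization_mul (by positivity) (by
        intro h0; rw [h0] at hodd; simp at hodd), Finsupp.add_apply,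
      Nat.Prime.factorization_pow Nat.prime_two, Finsupp.single_eq_same,
      Nat.factorization_eq_zero_of_not_dvd hodd.not_two_dvd_nat, add_zero])
  let f := QuotientGroup.mk' (Subgroup.center ↥(Cfsg.SU 3 F (2 ^ n)))
  refine hasTData_of (S := P₀.mapSurjective (f := f) (QuotientGroup.mk'_surjective _)) (τ := f L) ?_
  refine hdata.map_hom f fun x hx hk => ?_
  have hxz : x ∈ Subgroup.center ↥(Cfsg.SU 3 F (2 ^ n)) := (QuotientGroup.eq_one_iff x).1 hk
  have hcop : (Nat.card (Subgroup.center ↥(Cfsg.SU 3 F (2 ^ n)))).Coprime (2 ^ (3 * n)) := by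
    rw [C.card_center_su hF le_rfl]
    exact (Nat.Coprime.coprime_dvd_left (Nat.gcd_dvd_left _ _) (by norm_num)).pow_right _
  refine orderOf_eq_one_iff.1 (Nat.eq_one_of_dvd_coprimes hcop ?_ ?_)
  · rw [← Subgroup.orderOf_mk x hxz]; exact orderOf_dvd_natCard _
  · rw [← hcard, ← Subgroup.orderOf_mk x hx]; exact orderOf_dvd_natCard _

end CfsgLib.CycInter
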