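import Mathlib

/-!
# Distinguished elements of Sylow normalizers
-/

set_option autoImplicit false
set_option linter.unusedSectionVars false
set_option linter.style.haveILetI false

namespace CfsgLib.CycInter

open Subgroup

variable {G G' : Type*} [Group G] [Group G']

/-- Any two distinct Sylow `2`-subgroups meet in a cyclic group. -/
def Hyp (G : Type*) [Group G] : Prop :=
  ∀ S T : Sylow 2 G, S ≠ T → IsCyclic ↥((S : Subgroup G) ⊓ (T : Subgroup G))

/-- `τ` normalises `P`, permutes its involutions transitively, and no automorphism of order two of `P`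
fixing the involutions commutes with `τ`. -/
structure TData (P : Subgroup G) (τ : G) : Prop where
  normal : ∀ s, s ∈ P ↔ τ * s * τ⁻¹ ∈ P
  central : ∀ z ∈ P, z * z = 1 → ∀ s ∈ P, s * z = z * s
  two : ∃ a ∈ P, ∃ b ∈ P, a * a = 1 ∧ b * b = 1 ∧ a ≠ 1 ∧ b ≠ 1 ∧ a ≠ b
  trans : ∀ a ∈ P, ∀ b ∈ P, a * a = 1 → b * b = 1 → a ≠ 1 → b ≠ 1 → ∃ k : ℕ, τ ^ k * a * (τ ^ k)⁻¹ = b
  rigid : ∀ α : ↥P ≃* ↥P, (∀ x, α (α x) = x) → (∀ z : ↥P, z * z = 1 → α z = z) →
    (∀ x y : ↥P, (y : G) = τ * x * τ⁻¹ → (α y : G) = τ * α x * τ⁻¹) → ∀ x, α x = x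

/-- Every Sylow `2`-subgroup has such an element. -/
def HasTData (G : Type*) [Group G] : Prop :=
  ∀ S : Sylow 2 G, ∃ τ, TData (S : Subgroup G) τ

/-- Transport along an isomorphism. -/
theorem TData.map {P : Subgroup G} {τ : G} (h : TData P τ) (e : G ≃* G') :
    TData (P.map e.toMonoidHom) (e τ) := by
  have hmem : ∀ y, y ∈ P.map e.toMonoidHom ↔ e.symm y ∈ P := fun y => Subgroup.mem_map_equiv
  refine ⟨fun s => ?_, fun z hz hzz s hs => ?_, ?_, fun a ha b hb haa hbb ha1 hb1 => ?_, fun α h2 hfix hc x => ?_⟩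
  · rw [hmem, hmem, h.normal]
    simp
  · rw [hmem] at hz hs
    apply e.symm.injective
    rw [map_mul, map_mul]
    exact h.central _ hz (by rw [← map_mul, hzz, map_one]) _ hs
  · obtain ⟨a, ha, b, hb, haa, hbb, ha1, hb1, hab⟩ := h.two
    exact ⟨e a, mem_map_of_mem _ ha, e b, mem_map_of_mem _ hb, by rw [← map_mul, haa, map_one],
      by rw [← map_mul, hbb, map_one], e.map_ne_one_iff.2 ha1, e.map_ne_one_iff.2 hb1, e.injective.ne hab⟩
  · rw [hmem] at ha hb
    obtain ⟨k, hk⟩ := h.trans _ ha _ hb (by rw [← map_mul, haa, map_one]) (by rw [← map_mul, hbb, map_one])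
      (e.symm.map_ne_one_iff.2 ha1) (e.symm.map_ne_one_iff.2 hb1)
    refine ⟨k, e.symm.injective ?_⟩
    rw [map_mul, map_mul, map_inv, map_pow, e.symm_apply_apply, hk]
  · let g : ↥P ≃* ↥(P.map e.toMonoidHom) := P.equivMapOfInjective e.toMonoidHom e.injective
    have hg : ∀ w : ↥P, (g w : G') = e w := fun w => rfl
    have hg' : ∀ w, (g.symm w : G) = e.symm w := fun w => by
      apply e.injective
      rw [e.apply_symm_apply, ← hg, g.apply_symm_apply]
    let β : ↥P ≃* ↥P := (g.trans α).trans g.symm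
    have hβ : ∀ w, β w = g.symm (α (g w)) := fun w => rfl
    have := h.rigid β (fun w => by rw [hβ, hβ, g.apply_symm_apply, h2, g.symm_apply_apply])
      (fun z hz => by rw [hβ, hfix _ (by rw [← map_mul, hz, map_one]), g.symm_apply_apply])
      (fun a b hab => by
        rw [hβ, hβ, hg', hg', hc (g a) (g b) (by rw [hg, hg, hab, map_mul, map_mul, map_inv]), map_mul,
          map_mul, map_inv, e.symm_apply_apply])
      (g.symm x)
    rw [hβ, g.apply_symm_apply] at this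
    exact g.symm.injective this

/-- It is enough to treat one Sylow subgroup. -/
theorem hasTData_of [Finite G] {S : Sylow 2 G} {τ : G} (h : TData (S : Subgroup G) τ) : HasTData G := by
  haveI : Fact (Nat.Prime 2) := ⟨Nat.prime_two⟩
  intro T
  obtain ⟨g, hg⟩ := MulAction.exists_smul_eq G S T
  refine ⟨MulAut.conj g τ, ?_⟩
  have e : (T : Subgroup G) = (S : Subgroup G).map (MulAut.conj g).toMonoidHom := by
    rw [← hg, Sylow.coe_subgroup_smul]
    rfl
  rw [e]
  exact h.map _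

/-- Transport to an isomorphic group. -/
theorem HasTData.congr [Finite G] [Finite G'] (h : HasTData G) (e : G ≃* G') : HasTData G' := by
  haveI : Fact (Nat.Prime 2) := ⟨Nat.prime_two⟩
  obtain ⟨S⟩ := (inferInstance : Nonempty (Sylow 2 G))
  obtain ⟨τ, hτ⟩ := h S
  exact hasTData_of (S := S.mapSurjective (f := e.toMonoidHom) e.surjective) (τ := e τ) (hτ.map e)

/-- The elementary abelian case. -/
theorem TData.of_elementary {P : Subgroup G} {τ : G} (hn : ∀ s, s ∈ P ↔ τ * s * τ⁻¹ ∈ P)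
    (hsq : ∀ s ∈ P, s * s = 1) (htwo : ∃ a ∈ P, ∃ b ∈ P, a ≠ 1 ∧ b ≠ 1 ∧ a ≠ b)
    (htr : ∀ a ∈ P, ∀ b ∈ P, a ≠ 1 → b ≠ 1 → ∃ k : ℕ, τ ^ k * a * (τ ^ k)⁻¹ = b) : TData P τ := by
  refine ⟨hn, fun z hz _ s hs => ?_, ?_, fun a ha b hb _ _ => htr a ha b hb,
    fun α _ hfix _ x => hfix x (Subtype.ext (hsq _ x.2))⟩
  · have h := hsq _ (mul_mem hs hz)
    rw [← inv_eq_of_mul_eq_one_left h, mul_inv_rev, inv_eq_of_mul_eq_one_left (hsq _ hz),
      inv_eq_of_mul_eq_one_left (hsq _ hs)]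
  · obtain ⟨a, ha, b, hb, h1, h2, h3⟩ := htwo
    exact ⟨a, ha, b, hb, hsq a ha, hsq b hb, h1, h2, h3⟩

end CfsgLib.CycInter
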