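import Cfsg.Agent.Lib.Invol.CyclicInter.Odd
import Cfsg.Agent.Lib.Invol.CyclicInter.Suzuki
import Cfsg.Agent.Lib.Invol.CyclicInter.Unitary
import Cfsg.Agent.Lib.Invol.CyclicInter.Abelian
import Cfsg.Agent.Lib.Invol.CentralInter.Basic
import Cfsg.Agent.Lib.Perm.CycStab.Prim
import Cfsg.Agent.Lib.CIT.Structure
import Cfsg.Agent.Lib.Lie.Suz.Twisted
import Cfsg.Agent.Lib.Coprime.Fitting

/-!
# Nonsolvable groups with cyclic Sylow intersections
-/

set_option autoImplicit false
set_option linter.unusedSectionVars false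
set_option linter.style.haveILetI false

namespace CfsgLib.CycInter

open Subgroup CfsgLib.Invol

universe u

/-- The five families. -/
def Families (G : Type u) [Group G] : Prop :=
  (∃ (n : ℕ) (F : Type) (_ : Field F) (_ : Fintype F), 2 ≤ n ∧ Fintype.card F = 2 ^ n ∧
      Nonempty (G ≃* Matrix.ProjectiveSpecialLinearGroup (Fin 2) F)) ∨
  (∃ (m : ℕ) (F : Type) (_ : Field F) (_ : Fintype F), 1 ≤ m ∧ Fintype.card F = 2 ^ (2 * m + 1) ∧
      Nonempty (G ≃* ↥(Cfsg.Lie.Sz F (2 ^ (m + 1))))) ∨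
  (∃ (n : ℕ) (F : Type) (_ : Field F) (_ : Fintype F), 2 ≤ n ∧ Fintype.card F = 4 ^ n ∧
      Nonempty (G ≃* Cfsg.PSU 3 F (2 ^ n))) ∨
  (∃ (F : Type) (_ : Field F) (_ : Fintype F), (Fintype.card F % 8 = 3 ∨ Fintype.card F % 8 = 5) ∧
      5 < Fintype.card F ∧ Nonempty (G ≃* Matrix.ProjectiveSpecialLinearGroup (Fin 2) F)) ∨
  Cfsg.IsJ1 G

theorem Families.congr {G H : Type u} [Group G] [Group H] (e : H ≃* G) (h : Families G) : Families H := by
  rcases h with ⟨n, F, iF, iF', a, b, ⟨f⟩⟩ | ⟨m, F, iF, iF', a, b, ⟨f⟩⟩ | ⟨n, F, iF, iF', a, b, ⟨f⟩⟩ |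
    ⟨F, iF, iF', a, b, ⟨f⟩⟩ | ⟨hs, hc⟩
  · exact Or.inl ⟨n, F, iF, iF', a, b, ⟨e.trans f⟩⟩
  · exact Or.inr (Or.inl ⟨m, F, iF, iF', a, b, ⟨e.trans f⟩⟩)
  · exact Or.inr (Or.inr (Or.inl ⟨n, F, iF, iF', a, b, ⟨e.trans f⟩⟩))
  · exact Or.inr (Or.inr (Or.inr (Or.inl ⟨F, iF, iF', a, b, ⟨e.trans f⟩⟩)))
  · haveI := hs
    exact Or.inr (Or.inr (Or.inr (Or.inr ⟨MulEquiv.isSimpleGroup e, (Nat.card_congr e.toEquiv).trans hc⟩)))

/-- The theorem on simple groups with central intersections of rank one. -/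
def SimpleThm : Prop :=
  ∀ (G : Type u) [Group G] [Finite G] [IsSimpleGroup G], ¬ IsMulCommutative G → CfsgLib.CentInt.CIHyp G →
    Families G

/-- The members of the families have the element. -/
theorem hasTData_of_families {G : Type u} [Group G] [Finite G] [IsSimpleGroup G] (hG : ¬ IsMulCommutative G)
    (h : Families G) : HasTData G := by
  rcases h with ⟨n, F, iF, iF', hn, hc, ⟨f⟩⟩ | ⟨m, F, iF, iF', hm, hc, ⟨f⟩⟩ | ⟨n, F, iF, iF', hn, hc, ⟨f⟩⟩ |
    ⟨F, iF, iF', h8, -, ⟨f⟩⟩ | hJ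
  · exact (hasTData_psl_two hc hn).congr f.symm
  · obtain ⟨t⟩ := CfsgLib.Lie.Suz.exists_twEquiv hm hc
    exact (hasTData_sz hm hc).congr (t.trans f.symm)
  · exact (hasTData_psu hn (by rw [hc, ← pow_mul, show (4 : ℕ) = 2 ^ 2 from rfl, ← pow_mul, mul_comm])).congr f.symm
  · exact hasTData_psl_odd h8 hG f
  · exact hasTData_j1 hJ

variable {G : Type u} [Group G] [Finite G]

/-- Quotients inherit the hypothesis. -/
theorem Hyp.quotient (h : Hyp G) (R : Subgroup G) [R.Normal] : Hyp (G ⧸ R) := by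
  haveI : Fact (Nat.Prime 2) := ⟨Nat.prime_two⟩
  set π := QuotientGroup.mk' R
  have hπ := QuotientGroup.mk'_surjective R
  intro A B hAB
  set D := (A : Subgroup (G ⧸ R)) ⊓ (B : Subgroup (G ⧸ R))
  set H := D.comap π
  obtain ⟨P⟩ := (inferInstance : Nonempty (Sylow 2 ↥H))
  let r : ↥H →* ↥D := (π.comp H.subtype).codRestrict D fun x => x.2
  have hr : Function.Surjective r := fun d => by
    obtain ⟨g, hg⟩ := hπ d.1
    exact ⟨⟨g, show π g ∈ D from hg.symm ▸ d.2⟩, Subtype.ext hg⟩
  have hD : IsPGroup 2 ↥D := A.2.to_le inf_le_left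
  have hPr : (P : Subgroup ↥H).map r = ⊤ := by
    have hTop : IsPGroup 2 (⊤ : Subgroup ↥D) := hD.to_subgroup ⊤
    exact ((P.mapSurjective hr).3 hTop le_top).symm
  -- a Sylow subgroup above `A` containing the image
  have lift : ∀ C : Sylow 2 (G ⧸ R), D ≤ (C : Subgroup (G ⧸ R)) →
      ∃ S : Sylow 2 G, (P : Subgroup ↥H).map H.subtype ≤ S ∧ (S : Subgroup G).map π = C := by
    intro C hC
    set K := (C : Subgroup (G ⧸ R)).comap π
    have hPK : (P : Subgroup ↥H).map H.subtype ≤ K := by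
      rintro _ ⟨x, -, rfl⟩
      exact hC x.2
    obtain ⟨Q, hQ⟩ := ((P.2.map H.subtype).comap_subtype (K := K)).exists_le_sylow
    obtain ⟨S, hS⟩ := (Q.2.map K.subtype).exists_le_sylow
    refine ⟨S, fun x hx => hS ⟨⟨x, hPK hx⟩, hQ hx, rfl⟩, ?_⟩
    let s : ↥K →* ↥(C : Subgroup (G ⧸ R)) := (π.comp K.subtype).codRestrict _ fun x => x.2
    have hs : Function.Surjective s := fun d => by
      obtain ⟨g, hg⟩ := hπ d.1
      exact ⟨⟨g, show π g ∈ (C : Subgroup (G ⧸ R)) from hg.symm ▸ d.2⟩, Subtype.ext hg⟩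
    have hle : (C : Subgroup (G ⧸ R)) ≤ (S : Subgroup G).map π := by
      intro c hc
      have hCtop : IsPGroup 2 (⊤ : Subgroup ↥(C : Subgroup (G ⧸ R))) := C.2.to_subgroup ⊤
      have hm := (Q.mapSurjective hs).3 hCtop le_top
      have hcm : (⟨c, hc⟩ : ↥(C : Subgroup (G ⧸ R))) ∈ (Q : Subgroup ↥K).map s := by
        rw [← Sylow.coe_mapSurjective hs Q]
        exact hm ▸ Subgroup.mem_top _
      obtain ⟨x, hx, hxc⟩ := hcm
      exact ⟨x, hS ⟨x, hx, rfl⟩, congrArg Subtype.val hxc⟩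
    exact C.3 (S.2.map π) hle
  obtain ⟨S, hPS, hSA⟩ := lift A inf_le_left
  obtain ⟨T, hPT, hTB⟩ := lift B inf_le_right
  have hST : S ≠ T := fun e => hAB (Sylow.ext (by rw [← hSA, ← hTB, e]))
  haveI := h S T hST
  haveI : IsCyclic ↥((P : Subgroup ↥H).map H.subtype) :=
    isCyclic_of_injective (Subgroup.inclusion (le_inf hPS hPT)) (Subgroup.inclusion_injective _)
  let g : ↥((P : Subgroup ↥H).map H.subtype) →* ↥D :=
    (π.comp ((P : Subgroup ↥H).map H.subtype).subtype).codRestrict D fun x => by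
      obtain ⟨y, -, hy⟩ := x.2
      show π (x : G) ∈ D
      rw [← hy]
      exact y.2
  refine isCyclic_of_surjective g fun d => ?_
  obtain ⟨y, hy, hyd⟩ := (hPr ▸ Subgroup.mem_top d : d ∈ (P : Subgroup ↥H).map r)
  exact ⟨⟨y, mem_map_of_mem H.subtype hy⟩, Subtype.ext (congrArg Subtype.val hyd :)⟩

/-- Normal subgroups inherit the hypothesis. -/
theorem Hyp.normal (h : Hyp G) (N : Subgroup G) [N.Normal] : Hyp ↥N := by
  haveI : Fact (Nat.Prime 2) := ⟨Nat.prime_two⟩
  intro S T hST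
  obtain ⟨S', hS⟩ := (S.2.map N.subtype).exists_le_sylow
  obtain ⟨T', hT⟩ := (T.2.map N.subtype).exists_le_sylow
  have key : ∀ (A : Sylow 2 ↥N) (A' : Sylow 2 G), (A : Subgroup ↥N).map N.subtype ≤ A' →
      (A' : Subgroup G).comap N.subtype = A := fun A A' hA =>
    A.3 (A'.2.comap_of_injective _ N.subtype_injective) fun x hx => hA (mem_map_of_mem _ hx)
  haveI := h S' T' fun e => hST (Sylow.ext (by rw [← key S S' hS, ← key T T' hT, e]))
  refine isCyclic_of_injective
    ((N.subtype.comp ((S : Subgroup ↥N) ⊓ (T : Subgroup ↥N)).subtype).codRestrict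
      ((S' : Subgroup G) ⊓ (T' : Subgroup G)) fun x =>
        ⟨hS (mem_map_of_mem _ x.2.1), hT (mem_map_of_mem _ x.2.2)⟩) ?_
  intro a b e
  exact Subtype.ext (Subtype.ext (congrArg Subtype.val e :))

/-- The hypothesis on central intersections. -/
theorem Hyp.ciHyp (h : Hyp G) : CfsgLib.CentInt.CIHyp G := by
  intro S T hST _
  haveI := h S T hST
  intro A _ hA
  haveI : IsCyclic ↥A := inferInstance
  obtain ⟨a, ha⟩ := IsCyclic.exists_generator (α := ↥A)
  rw [← orderOf_eq_card_of_forall_mem_zpowers ha, pow_one]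
  exact Nat.le_of_dvd two_pos (orderOf_dvd_of_pow_eq_one (Subtype.ext (by
    rw [Subgroup.coe_pow]; exact hA a a.2)))

/-- What centralises a nonsolvable subgroup is solvable. -/
theorem isSolvable_of_commute (h : Hyp G) {A B : Subgroup G} (hA : ¬ Group.IsSolvable ↥A)
    (hc : ∀ a ∈ A, ∀ b ∈ B, b * a = a * b) : Group.IsSolvable ↥B := by
  haveI : Fact (Nat.Prime 2) := ⟨Nat.prime_two⟩
  obtain ⟨Q⟩ := (inferInstance : Nonempty (Sylow 2 ↥A))
  have hQ : ¬ IsCyclic ↥(Q : Subgroup ↥A) := fun hq => hA (CfsgLib.Perm.CycStab.isSolvable_of_cyclic_two Q hq)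
  obtain ⟨T, hT⟩ := (Q.2.map A.subtype).exists_le_sylow
  have hnorm : ∀ b ∈ B, b ∈ normalizer ((T : Subgroup G) : Set G) := by
    intro b hb
    refine Sylow.smul_eq_iff_mem_normalizer.1 ?_
    by_contra hne
    haveI := h _ _ hne
    have hle : (Q : Subgroup ↥A).map A.subtype ≤ ((b • T : Sylow 2 G) : Subgroup G) ⊓ (T : Subgroup G) := by
      intro x hx
      refine ⟨?_, hT hx⟩
      show x ∈ ((b • T : Sylow 2 G) : Subgroup G)
      rw [Sylow.coe_subgroup_smul, mem_smul_pointwise_iff_exists]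
      refine ⟨x, hT hx, ?_⟩
      obtain ⟨a, -, rfl⟩ := hx
      show b * (a : G) * b⁻¹ = a
      rw [hc a a.2 b hb, mul_inv_cancel_right]
    haveI : IsCyclic ↥((Q : Subgroup ↥A).map A.subtype) :=
      isCyclic_of_injective (Subgroup.inclusion hle) (Subgroup.inclusion_injective hle)
    exact hQ ((((Q : Subgroup ↥A).equivMapOfInjective A.subtype A.subtype_injective).isCyclic).2 inferInstance)
  set K := (T : Subgroup G).comap B.subtype
  haveI hKn : K.Normal := ⟨fun x hx b => (mem_set_normalizer_iff.1 (hnorm b b.2) x).1 hx⟩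
  have hK : IsPGroup 2 ↥K := T.2.comap_of_injective _ B.subtype_injective
  obtain ⟨R⟩ := (inferInstance : Nonempty (Sylow 2 ↥B))
  have hRK : (R : Subgroup ↥B) ≤ K := by
    intro x hx
    obtain ⟨k, hk⟩ := R.2 ⟨x, hx⟩
    exact CfsgLib.CentInt.mem_sylow_of_normalizer (k := k) (hnorm x x.2) (by
      have := congrArg (fun w : ↥(R : Subgroup ↥B) => ((w : ↥B) : G)) hk
      simpa using this)
  haveI : Group.IsNilpotent ↥K := hK.isNilpotent
  haveI : Group.IsSolvable (↥B ⧸ K) := Cfsg.Agent.S0205.result (by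
    rw [← Subgroup.index_eq_card, ← Nat.not_even_iff_odd]
    exact fun he => R.not_dvd_index (he.two_dvd.trans (Subgroup.index_dvd_of_le hRK)))
  exact Group.isSolvable_of_ker_le_range K.subtype (QuotientGroup.mk' K) (by simp)

/-- The simple normal subgroup over the radical. -/
theorem main (hS : SimpleThm.{u}) (h : Hyp G) (hns : ¬ Group.IsSolvable G) (R : Subgroup G) [R.Normal]
    (hR : Group.IsSolvable ↥R) (hRmax : ∀ N : Subgroup G, N.Normal → Group.IsSolvable ↥N → N ≤ R) :
    ∃ (G₁ : Subgroup G) (_ : G₁.Normal) (_ : (R.subgroupOf G₁).Normal), Odd G₁.index ∧ R ≤ G₁ ∧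
      IsSimpleGroup (↥G₁ ⧸ R.subgroupOf G₁) ∧ ¬ IsMulCommutative (↥G₁ ⧸ R.subgroupOf G₁) ∧
      Families (↥G₁ ⧸ R.subgroupOf G₁) := by
  classical
  have hq := h.quotient R
  set Γ := G ⧸ R
  set π := QuotientGroup.mk' R
  have hπ := QuotientGroup.mk'_surjective R
  -- no solvable normal subgroup upstairs
  have hnorm : ∀ M : Subgroup Γ, M.Normal → Group.IsSolvable ↥M → M = ⊥ := by
    intro M hM hMs
    haveI := hMs
    haveI := hR
    have hs : Group.IsSolvable ↥(M.comap π) := by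
      let f : ↥R →* ↥(M.comap π) := Subgroup.inclusion fun x hx => by
        rw [mem_comap, show π x = 1 from (QuotientGroup.eq_one_iff x).2 hx]; exact one_mem M
      let g : ↥(M.comap π) →* ↥M := (π.comp (M.comap π).subtype).codRestrict M fun x => x.2
      refine Group.isSolvable_of_ker_le_range f g fun x hx => ?_
      rw [MonoidHom.mem_ker, Subtype.ext_iff] at hx
      exact ⟨⟨x, (QuotientGroup.eq_one_iff (x : G)).1 hx⟩, Subtype.ext rfl⟩
    refine (Subgroup.eq_bot_iff_forall M).2 fun m hm => ?_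
    obtain ⟨x, rfl⟩ := hπ m
    exact (QuotientGroup.eq_one_iff x).2 (hRmax _ (hM.comap π) hs hm)
  haveI : Nontrivial Γ := by
    by_contra hn
    haveI : Subsingleton Γ := not_nontrivial_iff_subsingleton.1 hn
    haveI := hR
    exact hns (Group.isSolvable_of_ker_le_range R.subtype π (by simp [π]))
  obtain ⟨N, hN, hN1, -, hmin⟩ := Coprime.exists_minimal_normal_le (top_ne_bot (α := Subgroup Γ))
  haveI := hN
  have hNs : ¬ Group.IsSolvable ↥N := fun h' => hN1 (hnorm N hN h')
  haveI : Nontrivial ↥N := (nontrivial_iff_ne_bot N).2 hN1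
  haveI hsimple : IsSimpleGroup ↥N := by
    obtain ⟨K, hK, hK1, -, hKmin⟩ := Coprime.exists_minimal_normal_le (top_ne_bot (α := Subgroup ↥N))
    haveI := hK
    have hKs : ¬ Group.IsSolvable ↥K := by
      intro hs
      obtain ⟨p, hp, hpc⟩ := CIT.exists_pCore_ne_bot hK hs hK1
      haveI : (Cfsg.pCore p ↥N).Characteristic := Coprime.pCore_characteristic p
      haveI := (Coprime.pCore_isPGroup (G := ↥N) p).map N.subtype
      haveI : Fact p.Prime := ⟨hp⟩
      haveI : Group.IsNilpotent ↥((Cfsg.pCore p ↥N).map N.subtype) :=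
        ((Coprime.pCore_isPGroup (G := ↥N) p).map N.subtype).isNilpotent
      exact hpc ((map_eq_bot_iff_of_injective _ N.subtype_injective).1 (hnorm _ inferInstance inferInstance))
    set K' := K.map N.subtype with hK'
    have hK's : ¬ Group.IsSolvable ↥K' := fun hs => by
      haveI := hs
      exact hKs (Group.isSolvable_of_isSolvable_injective
        (f := (equivMapOfInjective K N.subtype N.subtype_injective).toMonoidHom)
        (equivMapOfInjective K N.subtype N.subtype_injective).injective)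
    have hKnorm : K'.Normal := by
      by_contra hnn
      obtain ⟨g, hg⟩ : ∃ g : Γ, CIT.cj g K' ≠ K' := by
        by_contra hh
        push Not at hh
        exact hnn ⟨fun x hx g => by rw [← hh g]; exact CIT.conj_mem_cj.2 hx⟩
      -- the conjugate inside `N`
      let L : Subgroup ↥N := (CIT.cj g K').comap N.subtype
      haveI hL : L.Normal := ⟨fun x hx n => by
        rw [mem_comap, CIT.mem_cj] at hx ⊢
        obtain ⟨k, hk, hke⟩ := hx
        refine ⟨⟨g⁻¹ * n * g, by have := hN.conj_mem n n.2 g⁻¹; rwa [inv_inv] at this⟩ * k * ⟨g⁻¹ * n * g, by have := hN.conj_mem n n.2 g⁻¹; rwa [inv_inv] at this⟩⁻¹,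
          hK.conj_mem k hk _, ?_⟩
        simp only [map_mul, map_inv, coe_subtype] at hke ⊢
        rw [hke]
        group⟩
      have hLmap : L.map N.subtype = CIT.cj g K' := by
        rw [map_comap_eq_self]
        intro x hx
        rw [range_subtype]
        obtain ⟨k, -, hke⟩ := CIT.mem_cj.1 hx
        have := hN.conj_mem _ k.2 g
        rw [show (k : Γ) = g⁻¹ * x * g from hke, show g * (g⁻¹ * x * g) * g⁻¹ = x by group] at this
        exact this
      have hd : K ⊓ L = ⊥ := by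
        refine (hKmin (K ⊓ L) inferInstance inf_le_left).resolve_right fun e => hg ?_
        refine (eq_of_le_of_card_ge ?_ (CIT.card_cj g K').le).symm
        rw [hK', ← hLmap]
        exact map_mono (e ▸ inf_le_right)
      refine hK's ?_
      refine isSolvable_of_commute hq (A := CIT.cj g K') ?_ fun a ha b hb => ?_
      · intro hs
        haveI : Group.IsSolvable ↥(K'.map (MulAut.conj g).toMonoidHom) := hs
        exact hK's (Group.isSolvable_of_isSolvable_injective
          (f := (K'.equivMapOfInjective (MulAut.conj g).toMonoidHom (MulAut.conj g).injective).toMonoidHom)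
          (K'.equivMapOfInjective (MulAut.conj g).toMonoidHom (MulAut.conj g).injective).injective)
      · obtain ⟨k, hk, rfl⟩ := hb
        obtain ⟨l, hl, rfl⟩ := (hLmap.symm ▸ ha : a ∈ L.map N.subtype)
        exact congrArg Subtype.val (Subgroup.commute_of_normal_of_disjoint K L hK hL (disjoint_iff.2 hd) k l hk hl).eq
    have hKtop : K = ⊤ := by
      refine map_injective N.subtype_injective ?_
      rw [← MonoidHom.range_eq_map, range_subtype]
      exact (hmin K' hKnorm (map_subtype_le K)).resolve_left fun e =>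
        hK1 ((map_eq_bot_iff_of_injective _ N.subtype_injective).1 e)
    exact ⟨fun M hM => by
      rcases hKmin M hM (hKtop ▸ le_top) with e | e
      · exact Or.inl e
      · exact Or.inr (e.trans hKtop)⟩
  have hnc : ¬ IsMulCommutative ↥N := fun hc => hNs (by
    haveI := hc
    letI : CommGroup ↥N := { (inferInstance : Group ↥N) with mul_comm := hc.is_comm.comm }
    infer_instance)
  have hC : centralizer (N : Set Γ) = ⊥ := by
    haveI : (centralizer (N : Set Γ)).Normal := inferInstance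
    exact hnorm _ inferInstance (isSolvable_of_commute hq hNs fun a ha b hb =>
      (mem_centralizer_iff.1 hb a ha).symm)
  have hfam := hS ↥N hnc (hq.normal N).ciHyp
  have hodd := odd_index (N := N) hq hC (hasTData_of_families hnc hfam)
  let G₁ := N.comap π
  have hRG : R ≤ G₁ := fun x hx => by
    show π x ∈ N
    rw [show π x = 1 from (QuotientGroup.eq_one_iff x).2 hx]; exact one_mem N
  let ρ : ↥G₁ →* ↥N := (π.comp G₁.subtype).codRestrict N fun x => x.2
  have hρ : Function.Surjective ρ := fun n => by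
    obtain ⟨g, hg⟩ := hπ n.1
    exact ⟨⟨g, show π g ∈ N from hg.symm ▸ n.2⟩, Subtype.ext hg⟩
  have hker : R.subgroupOf G₁ = ρ.ker := by
    ext x
    rw [mem_subgroupOf, MonoidHom.mem_ker, Subtype.ext_iff]
    exact (QuotientGroup.eq_one_iff (x : G)).symm
  let e : ↥G₁ ⧸ R.subgroupOf G₁ ≃* ↥N :=
    (QuotientGroup.quotientMulEquivOfEq hker).trans (QuotientGroup.quotientKerEquivOfSurjective ρ hρ)
  refine ⟨G₁, hN.comap π, inferInstance, ?_, hRG, MulEquiv.isSimpleGroup e, fun hc => hnc ⟨⟨fun a b => ?_⟩⟩,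
    hfam.congr e⟩
  · rw [Subgroup.index_comap_of_surjective N hπ]
    exact hodd
  · obtain ⟨a, rfl⟩ := e.surjective a
    obtain ⟨b, rfl⟩ := e.surjective b
    rw [← map_mul, ← map_mul, hc.is_comm.comm a b]

end CfsgLib.CycInter
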