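import Cfsg.Agent.Lib.Invol.CyclicInter.Defs
import Cfsg.Agent.Lib.Invol.ZStar
import Cfsg.Agent.Lib.Invol.Basic

/-!
# A simple normal subgroup with cyclic Sylow intersections around it has odd index
-/

set_option autoImplicit false
set_option linter.unusedSectionVars false
set_option linter.style.haveILetI false

namespace CfsgLib.CycInter

open Subgroup CfsgLib.Invol

variable {G : Type*} [Group G] [Finite G]

/-- A cyclic group has at most one element of order two. -/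
theorem cyclic_invol_unique {D : Subgroup G} (hD : IsCyclic ↥D) {a b : G} (ha : a ∈ D) (hb : b ∈ D)
    (ha2 : a * a = 1) (hb2 : b * b = 1) (ha1 : a ≠ 1) (hb1 : b ≠ 1) : a = b := by
  classical
  haveI := hD
  haveI : Fintype ↥D := Fintype.ofFinite _
  by_contra hne
  have h := IsCyclic.card_pow_eq_one_le (α := ↥D) (n := 2) (by norm_num)
  have h3 : ({1, ⟨a, ha⟩, ⟨b, hb⟩} : Finset ↥D) ⊆ Finset.univ.filter fun x => x ^ 2 = 1 := by
    intro x hx
    simp only [Finset.mem_insert, Finset.mem_singleton] at hx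
    simp only [Finset.mem_filter, Finset.mem_univ, true_and, pow_two]
    rcases hx with rfl | rfl | rfl
    · exact one_mul 1
    · exact Subtype.ext ha2
    · exact Subtype.ext hb2
  have hc := (Finset.card_le_card h3).trans h
  rw [Finset.card_eq_three.2 ⟨1, ⟨a, ha⟩, ⟨b, hb⟩, fun e => ha1 (congrArg Subtype.val e).symm,
    fun e => hb1 (congrArg Subtype.val e).symm, fun e => hne (congrArg Subtype.val e), rfl⟩] at hc
  omega

variable {N : Subgroup G} {P : Subgroup ↥N} {τ : ↥N}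

/-- Only the identity of `P` commutes with `τ`. -/
theorem TData.fixed_eq_one (h : TData P τ) (hP : IsPGroup 2 ↥P) {w : ↥N} (hw : w ∈ P)
    (hc : τ * w * τ⁻¹ = w) : w = 1 := by
  classical
  by_contra hne
  obtain ⟨k, hk⟩ := hP ⟨w, hw⟩
  have hk' : w ^ 2 ^ k = 1 := congrArg Subtype.val hk
  have hex : ∃ j, w ^ 2 ^ j = 1 := ⟨k, hk'⟩
  have hj : Nat.find hex ≠ 0 := fun e => hne (by
    have := Nat.find_spec hex
    rwa [e, pow_zero, pow_one] at this)
  obtain ⟨i, hi⟩ := Nat.exists_eq_succ_of_ne_zero hj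
  set c := w ^ 2 ^ i with hcdef
  have hcc : c * c = 1 := by
    rw [hcdef, ← pow_two, ← pow_mul, ← pow_succ]
    have := Nat.find_spec hex
    rwa [hi] at this
  have hc1 : c ≠ 1 := Nat.find_min hex (show i < Nat.find hex by omega)
  have hcτ : Commute τ c := (Commute.pow_right (show Commute τ w from mul_inv_eq_iff_eq_mul.1 hc) _)
  have hall : ∀ b ∈ P, b * b = 1 → b ≠ 1 → b = c := fun b hb hbb hb1 => by
    obtain ⟨j, hj⟩ := h.trans c (pow_mem hw _) b hb hcc hbb hc1 hb1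
    rw [← hj, (hcτ.pow_left j).eq, mul_inv_cancel_right]
  obtain ⟨a, ha, b, hb, haa, hbb, ha1, hb1, hab⟩ := h.two
  exact hab ((hall a ha haa ha1).trans (hall b hb hbb hb1).symm)

variable [N.Normal]

/-- The theorem on the index. -/
theorem odd_index (hH : Hyp G) [IsSimpleGroup ↥N] (hC : centralizer (N : Set G) = ⊥)
    (hd : HasTData ↥N) : Odd N.index := by
  classical
  haveI hfact : Fact (Nat.Prime 2) := ⟨Nat.prime_two⟩
  obtain ⟨Q⟩ := (inferInstance : Nonempty (Sylow 2 ↥N))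
  obtain ⟨τ, hτ⟩ := hd Q
  obtain ⟨S, hS⟩ := (Q.2.map N.subtype).exists_le_sylow
  rw [← Nat.not_even_iff_odd]
  intro heven
  -- the intersection with `N`
  have hSN : ∀ n : ↥N, (n : G) ∈ (S : Subgroup G) ↔ n ∈ (Q : Subgroup ↥N) := by
    intro n
    refine ⟨fun hn => ?_, fun hn => hS (mem_map_of_mem _ hn)⟩
    have hp : IsPGroup 2 ((S : Subgroup G).comap N.subtype) :=
      S.2.comap_of_injective _ N.subtype_injective
    rw [← Q.3 hp (fun m hm => hS (mem_map_of_mem _ hm))]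
    exact hn
  obtain ⟨a₀, ha₀, b₀, hb₀, haa, hbb, ha1, hb1, hab⟩ := hτ.two
  have huniq : ∀ T : Sylow 2 G, (a₀ : G) ∈ (T : Subgroup G) → (b₀ : G) ∈ (T : Subgroup G) → T = S := by
    intro T hTa hTb
    by_contra hne
    exact hab (Subtype.ext (cyclic_invol_unique (hH T S hne) ⟨hTa, (hSN a₀).2 ha₀⟩ ⟨hTb, (hSN b₀).2 hb₀⟩
      (by rw [← Subgroup.coe_mul, haa, Subgroup.coe_one]) (by rw [← Subgroup.coe_mul, hbb, Subgroup.coe_one])
      (fun e => ha1 (Subtype.ext e)) (fun e => hb1 (Subtype.ext e))))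
  -- elements of `N` that normalise `Q` normalise `S`
  have hnorm : ∀ m : ↥N, (∀ s, s ∈ (Q : Subgroup ↥N) ↔ m * s * m⁻¹ ∈ (Q : Subgroup ↥N)) →
      ∀ s ∈ (S : Subgroup G), (m : G) * s * (m : G)⁻¹ ∈ (S : Subgroup G) := by
    intro m hm s hs
    have key : ∀ n ∈ (Q : Subgroup ↥N), (n : G) ∈ (((m : G) • S : Sylow 2 G) : Subgroup G) := fun n hn => by
      rw [Sylow.coe_subgroup_smul, mem_smul_pointwise_iff_exists]
      refine ⟨((m⁻¹ * n * m : ↥N) : G), (hSN _).2 ((hm _).2 ?_), ?_⟩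
      · rwa [show m * (m⁻¹ * n * m) * m⁻¹ = n by group]
      · show (m : G) * ((m⁻¹ * n * m : ↥N) : G) * (m : G)⁻¹ = n
        simp only [Subgroup.coe_mul, Subgroup.coe_inv]
        group
    rw [← huniq _ (key a₀ ha₀) (key b₀ hb₀), Sylow.coe_subgroup_smul, mem_smul_pointwise_iff_exists]
    exact ⟨s, hs, rfl⟩
  have hτS := hnorm τ hτ.normal
  -- an element of the Sylow subgroup outside `N` with square inside
  obtain ⟨x₀, hx₀S, hx₀N, hx₀2⟩ : ∃ x ∈ (S : Subgroup G), x ∉ N ∧ x * x ∈ N := by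
    obtain ⟨y, hy, hyN⟩ : ∃ y ∈ (S : Subgroup G), y ∉ N := by
      by_contra hh
      push Not at hh
      exact S.not_dvd_index (heven.two_dvd.trans (Subgroup.index_dvd_of_le hh))
    obtain ⟨k, hk⟩ := S.2 ⟨y, hy⟩
    have hex : ∃ j, y ^ 2 ^ j ∈ N := ⟨k, by
      rw [show y ^ 2 ^ k = 1 from congrArg Subtype.val hk]; exact one_mem _⟩
    obtain ⟨i, hi⟩ := Nat.exists_eq_succ_of_ne_zero (n := Nat.find hex) fun e => hyN (by
      have := Nat.find_spec hex
      rwa [e, pow_zero, pow_one] at this)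
    refine ⟨y ^ 2 ^ i, pow_mem hy _, Nat.find_min hex (show i < Nat.find hex by omega), ?_⟩
    rw [← pow_two, ← pow_mul, ← pow_succ]
    have := Nat.find_spec hex
    rwa [hi] at this
  -- make it commute with `τ`
  obtain ⟨s, hsQ, hs⟩ : ∃ s ∈ (Q : Subgroup ↥N), (s : G) = x₀ * τ * x₀⁻¹ * (τ : G)⁻¹ := by
    refine ⟨⟨x₀ * τ * x₀⁻¹ * (τ : G)⁻¹, mul_mem (‹N.Normal›.conj_mem _ τ.2 x₀) (inv_mem τ.2)⟩, (hSN _).1 ?_, rfl⟩
    show x₀ * τ * x₀⁻¹ * (τ : G)⁻¹ ∈ (S : Subgroup G)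
    rw [show x₀ * τ * x₀⁻¹ * (τ : G)⁻¹ = x₀ * ((τ : G) * x₀⁻¹ * (τ : G)⁻¹) by group]
    exact mul_mem hx₀S (hτS _ (inv_mem hx₀S))
  let f : ↥(Q : Subgroup ↥N) → ↥(Q : Subgroup ↥N) := fun u =>
    ⟨(u : ↥N) * (τ * (u : ↥N)⁻¹ * τ⁻¹), mul_mem u.2 ((hτ.normal _).1 (inv_mem u.2))⟩
  have hf : Function.Injective f := by
    intro u v e
    have e' : (u : ↥N) * (τ * (u : ↥N)⁻¹ * τ⁻¹) = (v : ↥N) * (τ * (v : ↥N)⁻¹ * τ⁻¹) := congrArg Subtype.val e
    refine Subtype.ext (eq_of_inv_mul_eq_one (hτ.fixed_eq_one Q.2 (mul_mem (inv_mem u.2) v.2) ?_))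
    calc τ * ((u : ↥N)⁻¹ * (v : ↥N)) * τ⁻¹
        = (u : ↥N)⁻¹ * ((u : ↥N) * (τ * (u : ↥N)⁻¹ * τ⁻¹)) * (τ * (v : ↥N) * τ⁻¹) := by group
      _ = (u : ↥N)⁻¹ * (v : ↥N) := by rw [e']; group
  obtain ⟨u, hu⟩ := Finite.surjective_of_injective hf ⟨s, hsQ⟩
  have hu' : ((u : ↥N) : G) * ((τ : G) * ((u : ↥N) : G)⁻¹ * (τ : G)⁻¹) = x₀ * τ * x₀⁻¹ * (τ : G)⁻¹ := by
    rw [← hs]
    exact congrArg (fun w : ↥(Q : Subgroup ↥N) => ((w : ↥N) : G)) hu
  set x := ((u : ↥N) : G)⁻¹ * x₀ with hx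
  have hxτ : x * τ * x⁻¹ = τ := by
    calc x * τ * x⁻¹ = ((u : ↥N) : G)⁻¹ * (x₀ * τ * x₀⁻¹ * (τ : G)⁻¹) * ((τ : G) * ((u : ↥N) : G)) := by
          rw [hx]; group
      _ = τ := by rw [← hu']; group
  have hxS : x ∈ (S : Subgroup G) := mul_mem (inv_mem ((hSN _).2 u.2)) hx₀S
  have hxN : x ∉ N := fun h => hx₀N (by
    simpa [hx] using mul_mem (u : ↥N).2 h)
  have hcτ : Commute x (τ : G) := mul_inv_eq_iff_eq_mul.1 hxτ
  have hx2 : x * x = 1 := by
    have hm : x * x ∈ N := by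
      rw [show x * x = ((u : ↥N) : G)⁻¹ * (x₀ * ((u : ↥N) : G)⁻¹ * x₀⁻¹) * (x₀ * x₀) by rw [hx]; group]
      exact mul_mem (mul_mem (inv_mem (u : ↥N).2) (‹N.Normal›.conj_mem _ (inv_mem (u : ↥N).2) x₀)) hx₀2
    have h1 : (⟨x * x, hm⟩ : ↥N) = 1 := hτ.fixed_eq_one Q.2 ((hSN _).1 (mul_mem hxS hxS)) (Subtype.ext (by
      show (τ : G) * (x * x) * (τ : G)⁻¹ = x * x
      rw [((hcτ.mul_left hcτ).symm).eq, mul_inv_cancel_right]))
    exact congrArg Subtype.val h1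
  have hxi : x⁻¹ = x := inv_eq_of_mul_eq_one_left hx2
  -- conjugation by `x`
  let c : ↥N ≃* ↥N :=
    { toFun := fun n => ⟨x * n * x⁻¹, ‹N.Normal›.conj_mem _ n.2 x⟩
      invFun := fun n => ⟨x * n * x⁻¹, ‹N.Normal›.conj_mem _ n.2 x⟩
      left_inv := fun n => Subtype.ext (by
        show x * (x * n * x⁻¹) * x⁻¹ = n
        rw [hxi]; simp only [← mul_assoc, hx2, one_mul]; rw [mul_assoc, hx2, mul_one])
      right_inv := fun n => Subtype.ext (by
        show x * (x * n * x⁻¹) * x⁻¹ = n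
        rw [hxi]; simp only [← mul_assoc, hx2, one_mul]; rw [mul_assoc, hx2, mul_one])
      map_mul' := fun a b => Subtype.ext (by
        show x * ((a : G) * b) * x⁻¹ = x * a * x⁻¹ * (x * b * x⁻¹)
        group) }
  have hc : ∀ n, (c n : G) = x * n * x⁻¹ := fun n => rfl
  have hcc : ∀ n, c (c n) = n := c.left_inv
  have hcQ : ∀ n ∈ (Q : Subgroup ↥N), c n ∈ (Q : Subgroup ↥N) := fun n hn =>
    (hSN _).1 (mul_mem (mul_mem hxS ((hSN _).2 hn)) (inv_mem hxS))
  have hcτ' : c τ = τ := Subtype.ext hxτ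
  -- `x` fixes all involutions of `Q`
  have hfix : ∀ z ∈ (Q : Subgroup ↥N), z * z = 1 → c z = z := by
    obtain ⟨z₀, hz₀, hzz₀, hz₀1, hz₀c⟩ : ∃ z ∈ (Q : Subgroup ↥N), z * z = 1 ∧ z ≠ 1 ∧ c z = z := by
      by_cases hca : c a₀ = a₀
      · exact ⟨a₀, ha₀, haa, ha1, hca⟩
      have hcomm : a₀ * c a₀ = c a₀ * a₀ := (hτ.central a₀ ha₀ haa _ (hcQ _ ha₀)).symm
      have hca2 : c a₀ * c a₀ = 1 := by rw [← map_mul, haa, map_one]
      refine ⟨a₀ * c a₀, mul_mem ha₀ (hcQ _ ha₀), ?_, fun e => hca ?_, by rw [map_mul, hcc, ← hcomm]⟩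
      · rw [mul_assoc, ← mul_assoc (c a₀), ← hcomm, mul_assoc, hca2, mul_one, haa]
      · rw [← inv_eq_of_mul_eq_one_right e, inv_eq_of_mul_eq_one_left haa]
    intro z hz hzz
    by_cases hz1 : z = 1
    · rw [hz1, map_one]
    obtain ⟨k, hk⟩ := hτ.trans z₀ hz₀ z hz hzz₀ hzz hz₀1 hz1
    rw [← hk, map_mul, map_mul, map_inv, map_pow, hcτ', hz₀c]
  let α : ↥(Q : Subgroup ↥N) ≃* ↥(Q : Subgroup ↥N) :=
    { toFun := fun n => ⟨c n, hcQ _ n.2⟩
      invFun := fun n => ⟨c n, hcQ _ n.2⟩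
      left_inv := fun n => Subtype.ext (hcc _)
      right_inv := fun n => Subtype.ext (hcc _)
      map_mul' := fun a b => Subtype.ext (map_mul c _ _) }
  have hα : ∀ n ∈ (Q : Subgroup ↥N), c n = n := fun n hn => congrArg Subtype.val
    (hτ.rigid α (fun w => Subtype.ext (hcc _)) (fun z hz => Subtype.ext (hfix _ z.2 (congrArg Subtype.val hz)))
      (fun a b e => by
        show c (b : ↥N) = τ * c (a : ↥N) * τ⁻¹
        rw [e, map_mul, map_mul, map_inv, hcτ']) ⟨n, hn⟩)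
  have hxQ : ∀ n ∈ (Q : Subgroup ↥N), Commute x (n : G) := fun n hn =>
    mul_inv_eq_iff_eq_mul.1 ((hc n).symm.trans (congrArg Subtype.val (hα n hn)))
  -- the group `N ⟨x⟩`
  let L : Subgroup G :=
    { carrier := {g | g ∈ N ∨ g * x ∈ N}
      one_mem' := Or.inl (one_mem _)
      mul_mem' := by
        rintro a b (ha | ha) (hb | hb)
        · exact Or.inl (mul_mem ha hb)
        · exact Or.inr (by rw [mul_assoc]; exact mul_mem ha hb)
        · refine Or.inr ?_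
          rw [show a * b * x = a * x * (x⁻¹ * b * x⁻¹⁻¹) by group]
          exact mul_mem ha (‹N.Normal›.conj_mem _ hb _)
        · refine Or.inl ?_
          have := mul_mem ha (‹N.Normal›.conj_mem _ hb x⁻¹)
          rw [show a * x * (x⁻¹ * (b * x) * x⁻¹⁻¹) = a * b * (x * x) by group, hx2, mul_one] at this
          exact this
      inv_mem' := by
        rintro a (ha | ha)
        · exact Or.inl (inv_mem ha)
        · refine Or.inr ?_
          have := ‹N.Normal›.conj_mem _ (inv_mem ha) x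
          rw [show x * (a * x)⁻¹ * x⁻¹ = a⁻¹ * x⁻¹ by group, hxi] at this
          exact this }
  have hxL : x ∈ L := Or.inr (by rw [hx2]; exact one_mem _)
  have hNL : N ≤ L := fun n hn => Or.inl hn
  have hSL : ∀ w ∈ (S : Subgroup G), w ∈ L → ∃ n ∈ (Q : Subgroup ↥N), w = n ∨ w = (n : G) * x := by
    rintro w hw (hwN | hwN)
    · exact ⟨⟨w, hwN⟩, (hSN _).1 hw, Or.inl rfl⟩
    · refine ⟨⟨w * x, hwN⟩, (hSN _).1 (mul_mem hw hxS), Or.inr ?_⟩
      show w = w * x * x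
      rw [mul_assoc, hx2, mul_one]
  obtain ⟨T, hT⟩ := (S.2.comap_of_injective L.subtype L.subtype_injective).exists_le_sylow
  have hTS : ∀ t : ↥L, t ∈ (T : Subgroup ↥L) → (t : G) ∈ (S : Subgroup G) := by
    intro t ht
    obtain ⟨U, hU⟩ := (T.2.map L.subtype).exists_le_sylow
    have key : ∀ n ∈ (Q : Subgroup ↥N), (n : G) ∈ (U : Subgroup G) := fun n hn =>
      hU ⟨⟨n, hNL n.2⟩, hT (show (n : G) ∈ (S : Subgroup G) from (hSN n).2 hn), rfl⟩
    rw [← huniq U (key a₀ ha₀) (key b₀ hb₀)]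
    exact hU ⟨t, ht, rfl⟩
  have hxone : x ≠ 1 := fun e => hxN (e ▸ one_mem _)
  have hxo : orderOf (⟨x, hxL⟩ : ↥L) = 2 := by
    rw [Subgroup.orderOf_mk]
    exact invol_iff.2 ⟨hx2, hxone⟩
  -- `x` is isolated there
  have hiso : IsZCentral (⟨x, hxL⟩ : ↥L) := by
    refine zstar_of_weakly_closed T hxo fun g hg => Subtype.ext ?_
    show (g : G) * x * (g : G)⁻¹ = x
    set y := (g : G) * x * (g : G)⁻¹ with hy
    have hyS : y ∈ (S : Subgroup G) := hTS _ hg
    have hyN : y ∉ N := fun h => hxN (by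
      have := ‹N.Normal›.conj_mem _ h (g : G)⁻¹
      rwa [hy, show (g : G)⁻¹ * ((g : G) * x * (g : G)⁻¹) * (g : G)⁻¹⁻¹ = x by group] at this)
    obtain ⟨z, hz, e | e⟩ := hSL y hyS (mul_mem (mul_mem g.2 hxL) (inv_mem g.2))
    · exact absurd (e ▸ z.2) hyN
    by_contra hne
    have hzc : ∀ n ∈ (Q : Subgroup ↥N), Commute (y : G) (n : G) := by
      have hzz : z * z = 1 := Subtype.ext (by
        have hy2 : y * y = 1 := by
          rw [hy, show (g : G) * x * (g : G)⁻¹ * ((g : G) * x * (g : G)⁻¹) = (g : G) * (x * x) * (g : G)⁻¹ by group,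
            hx2, mul_one, mul_inv_cancel]
        rw [e, (hxQ z hz).mul_mul_mul_comm, hx2, mul_one] at hy2
        exact hy2)
      intro n hn
      rw [e]
      exact Commute.mul_left (congrArg Subtype.val (hτ.central z hz hzz n hn)).symm (hxQ n hn)
    -- Sylow in the centralizer
    let CN : Subgroup ↥N := (centralizer ({x} : Set G)).comap N.subtype
    let CY : Subgroup ↥N := (centralizer ({y} : Set G)).comap N.subtype
    have hQX : (Q : Subgroup ↥N) ≤ CN := fun n hn => mem_centralizer_singleton_iff.2 (hxQ n hn).symm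
    obtain ⟨n, hn⟩ : ∃ n : ↥N, (n : G) * x * (n : G)⁻¹ = y := by
      rcases g.2 with hgN | hgN
      · exact ⟨⟨g, hgN⟩, rfl⟩
      · refine ⟨⟨(g : G) * x, hgN⟩, ?_⟩
        show (g : G) * x * x * ((g : G) * x)⁻¹ = y
        rw [mul_inv_rev, hxi, mul_assoc (g : G) x x, hx2, mul_one, ← mul_assoc, hy]
    -- conjugate so as to normalise `Q`
    have hP : IsPGroup 2 ((((MulAut.conj n) • Q : Sylow 2 ↥N) : Subgroup ↥N).subgroupOf CY) :=
      (((MulAut.conj n) • Q : Sylow 2 ↥N)).2.comap_subtype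
    have hQY : (Q : Subgroup ↥N) ≤ CY := fun m hm => mem_centralizer_singleton_iff.2 (hzc m hm).symm
    obtain ⟨k, hk⟩ := exists_conj_le_sylow hP (Q.subtype hQY)
    set m : ↥N := (k : ↥N) * n with hm
    have hmx : (m : G) * x * (m : G)⁻¹ = y := by
      have hky : ((k : ↥N) : G) * y = y * ((k : ↥N) : G) := mem_centralizer_singleton_iff.1 k.2
      calc (m : G) * x * (m : G)⁻¹ = ((k : ↥N) : G) * ((n : G) * x * (n : G)⁻¹) * ((k : ↥N) : G)⁻¹ := by
            rw [hm, Subgroup.coe_mul]; group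
        _ = y := by rw [hn, hky, mul_inv_cancel_right]
    have hmQ : ∀ q ∈ (Q : Subgroup ↥N), m * q * m⁻¹ ∈ (Q : Subgroup ↥N) := fun q hq => by
      have hqY : n * q * n⁻¹ ∈ CY := mem_centralizer_singleton_iff.2 (by
        show (n : G) * q * (n : G)⁻¹ * y = y * ((n : G) * q * (n : G)⁻¹)
        rw [← hn]
        calc (n : G) * q * (n : G)⁻¹ * ((n : G) * x * (n : G)⁻¹) = (n : G) * ((q : G) * x) * (n : G)⁻¹ := by group
          _ = (n : G) * (x * q) * (n : G)⁻¹ := by rw [(hxQ q hq).eq]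
          _ = (n : G) * x * (n : G)⁻¹ * ((n : G) * q * (n : G)⁻¹) := by group)
      have := hk ⟨n * q * n⁻¹, hqY⟩ (by
        show n * q * n⁻¹ ∈ (((MulAut.conj n) • Q : Sylow 2 ↥N) : Subgroup ↥N)
        rw [Sylow.pointwise_smul_def, mem_smul_pointwise_iff_exists]
        exact ⟨q, hq, rfl⟩)
      rw [show m * q * m⁻¹ = (k : ↥N) * (n * q * n⁻¹) * (k : ↥N)⁻¹ by rw [hm]; group]
      exact this
    let M : Subgroup ↥N := normalizer ((Q : Subgroup ↥N) : Set ↥N)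
    have hmM : m ∈ M := by
      refine mem_set_normalizer_iff.2 fun q => ⟨hmQ q, fun h => ?_⟩
      obtain ⟨w, hw⟩ := Finite.surjective_of_injective
        (f := fun w : ↥(Q : Subgroup ↥N) => (⟨m * w * m⁻¹, hmQ _ w.2⟩ : ↥(Q : Subgroup ↥N)))
        (fun a b h => Subtype.ext (mul_left_cancel (mul_right_cancel (congrArg Subtype.val h)))) ⟨_, h⟩
      have hw' := congrArg Subtype.val hw
      exact (mul_left_cancel (mul_right_cancel hw') : (w : ↥N) = q) ▸ w.2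
    have hτM : τ ∈ M := mem_set_normalizer_iff.2 hτ.normal
    -- the orbit of `x` is odd
    letI : MulAction ↥M G := MulAction.compHom G
      ((ConjAct.toConjAct (G := G)).toMonoidHom.comp (N.subtype.comp M.subtype))
    have hsmul : ∀ (a : ↥M) (w : G), a • w = ((a : ↥N) : G) * w * ((a : ↥N) : G)⁻¹ := fun a w => rfl
    have hoddO : Odd (MulAction.orbit ↥M x).ncard := by
      rw [← Nat.card_coe_set_eq, Nat.card_congr (MulAction.orbitEquivQuotientStabilizer ↥M x),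
        ← Subgroup.index_eq_card, ← Nat.not_even_iff_odd]
      intro he
      have hle : (Q : Subgroup ↥N).subgroupOf M ≤ MulAction.stabilizer ↥M x := fun a ha => by
        rw [MulAction.mem_stabilizer_iff, hsmul, ← (hxQ (a : ↥N) ha).eq, mul_inv_cancel_right]
      have h1 : 2 ∣ (Q : Subgroup ↥N).relIndex M := he.two_dvd.trans (Subgroup.index_dvd_of_le hle)
      exact Q.not_dvd_index (h1.trans (Subgroup.relIndex_dvd_index_of_le le_normalizer))
    let Z : Subgroup ↥N :=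
      { carrier := {w | w ∈ (Q : Subgroup ↥N) ∧ w * w = 1}
        one_mem' := ⟨one_mem _, one_mul 1⟩
        mul_mem' := by
          rintro a b ⟨ha, ha2⟩ ⟨hb, hb2⟩
          refine ⟨mul_mem ha hb, ?_⟩
          rw [mul_assoc, ← mul_assoc b a b, hτ.central a ha ha2 b hb, mul_assoc a b b, hb2, mul_one, ha2]
        inv_mem' := by
          rintro a ⟨ha, ha2⟩
          exact ⟨inv_mem ha, by rw [← mul_inv_rev, ha2, inv_one]⟩ }
    have horb : ∀ w ∈ MulAction.orbit ↥M x, ∃ v ∈ Z, w = (v : G) * x := by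
      rintro _ ⟨a, rfl⟩
      show ∃ v ∈ Z, a • x = (v : G) * x
      rw [hsmul]
      have haS : ((a : ↥N) : G) * x * ((a : ↥N) : G)⁻¹ ∈ (S : Subgroup G) :=
        hnorm _ (mem_set_normalizer_iff.1 a.2) x hxS
      have haN : ((a : ↥N) : G) * x * ((a : ↥N) : G)⁻¹ ∉ N := fun h => hxN (by
        have := ‹N.Normal›.conj_mem _ h ((a : ↥N) : G)⁻¹
        rwa [show ((a : ↥N) : G)⁻¹ * (((a : ↥N) : G) * x * ((a : ↥N) : G)⁻¹) * ((a : ↥N) : G)⁻¹⁻¹ = x by group] at this)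
      obtain ⟨v, hv, e | e⟩ := hSL _ haS (mul_mem (mul_mem (hNL (a : ↥N).2) hxL) (inv_mem (hNL (a : ↥N).2)))
      · exact absurd (e ▸ v.2) haN
      refine ⟨v, ⟨hv, Subtype.ext ?_⟩, e⟩
      have h2 : ((a : ↥N) : G) * x * ((a : ↥N) : G)⁻¹ * (((a : ↥N) : G) * x * ((a : ↥N) : G)⁻¹) = 1 := by
        rw [show ((a : ↥N) : G) * x * ((a : ↥N) : G)⁻¹ * (((a : ↥N) : G) * x * ((a : ↥N) : G)⁻¹) =
          ((a : ↥N) : G) * (x * x) * ((a : ↥N) : G)⁻¹ by group, hx2, mul_one, mul_inv_cancel]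
      rw [e, (hxQ v hv).mul_mul_mul_comm, hx2, mul_one] at h2
      exact h2
    have hZ : MulAction.orbit ↥M x = (fun v : ↥N => (v : G) * x) '' (Z : Set ↥N) := by
      refine Set.Subset.antisymm (fun w hw => ?_) ?_
      · obtain ⟨v, hv, rfl⟩ := horb w hw
        exact ⟨v, hv, rfl⟩
      rintro _ ⟨v, ⟨hv, hv2⟩, rfl⟩
      by_cases hv1 : v = 1
      · rw [hv1]
        show ((1 : ↥N) : G) * x ∈ _
        rw [Subgroup.coe_one, one_mul]
        exact MulAction.mem_orbit_self x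
      obtain ⟨z', ⟨hz', hz'2⟩, hz'e⟩ := horb y ⟨⟨m, hmM⟩, (hsmul _ _).trans hmx⟩
      have hz'1 : z' ≠ 1 := fun e1 => hne (by rw [hz'e, e1, Subgroup.coe_one, one_mul])
      obtain ⟨j, hj⟩ := hτ.trans z' hz' v hv hz'2 hv2 hz'1 hv1
      refine ⟨⟨τ ^ j * m, mul_mem (pow_mem hτM j) hmM⟩, ?_⟩
      show ((τ ^ j * m : ↥N) : G) * x * ((τ ^ j * m : ↥N) : G)⁻¹ = (v : G) * x
      rw [← hj]
      simp only [Subgroup.coe_mul, Subgroup.coe_pow, Subgroup.coe_inv]
      have hcx := (hcτ.symm.pow_left j).eq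
      calc (τ : G) ^ j * (m : G) * x * ((τ : G) ^ j * (m : G))⁻¹
          = (τ : G) ^ j * ((m : G) * x * (m : G)⁻¹) * ((τ : G) ^ j)⁻¹ := by group
        _ = (τ : G) ^ j * (z' : G) * ((τ : G) ^ j)⁻¹ * x := by
          rw [hmx, hz'e, ← mul_assoc, mul_assoc ((τ : G) ^ j * (z' : G)) x, ← (hcτ.symm.pow_left j).inv_left.eq,
            ← mul_assoc]
    rw [hZ, Set.ncard_image_of_injective _ (fun a b h => Subtype.ext (mul_right_cancel h)),
      ← Nat.card_coe_set_eq] at hoddO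
    have h2 : orderOf (⟨a₀, ha₀, haa⟩ : ↥Z) = 2 := by
      rw [← Subgroup.orderOf_coe]
      exact invol_iff.2 ⟨haa, ha1⟩
    exact Nat.not_even_iff_odd.2 hoddO (even_iff_two_dvd.2 (h2 ▸ orderOf_dvd_natCard _))
  -- so `x` centralises `N`
  have hO : (Cfsg.pPrimeCore 2 ↥L).comap (Subgroup.inclusion hNL) = ⊥ := by
    haveI : (Cfsg.pPrimeCore 2 ↥L).Normal := by
      rw [CfsgLib.Coprime.pPrimeCore_eq_piCore Nat.prime_two]; infer_instance
    refine ((inferInstance : ((Cfsg.pPrimeCore 2 ↥L).comap (Subgroup.inclusion hNL)).Normal).eq_bot_or_eq_top).resolve_right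
      fun e => ?_
    have hmem : Subgroup.inclusion hNL a₀ ∈ Cfsg.pPrimeCore 2 ↥L :=
      Subgroup.mem_comap.1 (e ▸ Subgroup.mem_top a₀)
    refine notMem_pPrimeCore ?_ hmem
    rw [orderOf_injective _ (Subgroup.inclusion_injective hNL)]
    exact invol_iff.2 ⟨haa, ha1⟩
  refine hxone (Subgroup.mem_bot.1 (hC ▸ mem_centralizer_iff.2 fun n hn => ?_))
  have hmem : (⟨x * n * x⁻¹ * n⁻¹, mul_mem (‹N.Normal›.conj_mem _ hn x) (inv_mem hn)⟩ : ↥N) = 1 := by
    rw [← Subgroup.mem_bot, ← hO, Subgroup.mem_comap]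
    exact hiso ⟨n, hNL hn⟩
  have h1 : x * n * x⁻¹ * n⁻¹ = 1 := congrArg Subtype.val hmem
  calc n * x = x * n * x⁻¹ * n⁻¹ * n * x := by rw [h1, one_mul]
    _ = x * n := by group

end CfsgLib.CycInter
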