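import Cfsg.Agent.Lib.Invol.CyclicInter.Defs

/-!
# Elements permuting the involutions transitively
-/

set_option autoImplicit false
set_option linter.unusedSectionVars false
set_option linter.style.haveILetI false

namespace CfsgLib.CycInter

open Subgroup

variable {G : Type*} [Group G] [Finite G]

/-- An element mapping a finite subgroup into itself normalises it. -/
theorem normal_of_conj_le {P : Subgroup G} {τ : G} (h : ∀ s ∈ P, τ * s * τ⁻¹ ∈ P) (s : G) :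
    s ∈ P ↔ τ * s * τ⁻¹ ∈ P := by
  refine ⟨h s, fun hs => ?_⟩
  obtain ⟨w, hw⟩ := Finite.surjective_of_injective
    (f := fun w : ↥P => (⟨τ * w * τ⁻¹, h _ w.2⟩ : ↥P))
    (fun a b e => Subtype.ext (mul_left_cancel (mul_right_cancel (congrArg Subtype.val e)))) ⟨_, hs⟩
  exact (mul_left_cancel (mul_right_cancel (congrArg Subtype.val hw)) : (w : G) = s) ▸ w.2

/-- A single orbit gives transitivity. -/
theorem trans_of_orbit {a₀ a b : G} {τ : G} (ha : ∃ j : ℕ, τ ^ j * a₀ * (τ ^ j)⁻¹ = a)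
    (hb : ∃ j : ℕ, τ ^ j * a₀ * (τ ^ j)⁻¹ = b) : ∃ k : ℕ, τ ^ k * a * (τ ^ k)⁻¹ = b := by
  obtain ⟨i, rfl⟩ := ha
  obtain ⟨j, rfl⟩ := hb
  obtain ⟨n, hn⟩ := Nat.exists_eq_succ_of_ne_zero (orderOf_pos τ).ne'
  refine ⟨j + i * n, ?_⟩
  have h : τ ^ (j + i * n) * τ ^ i = τ ^ j := by
    rw [← pow_add, show j + i * n + i = j + orderOf τ * i by rw [hn, Nat.succ_eq_add_one]; ring, pow_add, pow_mul, pow_orderOf_eq_one,
      one_pow, mul_one]
  rw [← h]
  group

/-- The elementary abelian case from a single orbit. -/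
theorem TData.of_orbit {P : Subgroup G} {τ a₀ : G} (hle : ∀ s ∈ P, τ * s * τ⁻¹ ∈ P)
    (hsq : ∀ s ∈ P, s * s = 1) (htwo : ∃ a ∈ P, ∃ b ∈ P, a ≠ 1 ∧ b ≠ 1 ∧ a ≠ b)
    (horb : ∀ a ∈ P, a ≠ 1 → ∃ j : ℕ, τ ^ j * a₀ * (τ ^ j)⁻¹ = a) : TData P τ :=
  TData.of_elementary (normal_of_conj_le hle) hsq htwo fun a ha b hb ha1 hb1 =>
    trans_of_orbit (horb a ha ha1) (horb b hb hb1)

/-- Transport along a homomorphism that is injective on `P`. -/
theorem TData.map_hom {G' : Type*} [Group G'] [Finite G'] {P : Subgroup G} {τ : G} (h : TData P τ) (f : G →* G')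
    (hinj : ∀ a ∈ P, f a = 1 → a = 1) : TData (P.map f) (f τ) := by
  have hf : ∀ a ∈ P, ∀ b ∈ P, f a = f b → a = b := fun a ha b hb e => eq_of_inv_mul_eq_one
    (hinj _ (mul_mem (inv_mem ha) hb) (by rw [map_mul, map_inv, e, inv_mul_cancel]))
  have hsq : ∀ a ∈ P, f a * f a = 1 → a * a = 1 := fun a ha e => hinj _ (mul_mem ha ha) (by rw [map_mul, e])
  refine ⟨normal_of_conj_le ?_, ?_, ?_, ?_, ?_⟩
  · rintro _ ⟨s, hs, rfl⟩
    exact ⟨_, (h.normal s).1 hs, by rw [map_mul, map_mul, map_inv]⟩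
  · rintro _ ⟨z, hz, rfl⟩ hzz _ ⟨s, hs, rfl⟩
    rw [← map_mul, ← map_mul, h.central z hz (hsq z hz hzz) s hs]
  · obtain ⟨a, ha, b, hb, haa, hbb, ha1, hb1, hab⟩ := h.two
    exact ⟨f a, mem_map_of_mem f ha, f b, mem_map_of_mem f hb, by rw [← map_mul, haa, map_one],
      by rw [← map_mul, hbb, map_one], fun e => ha1 (hinj a ha e), fun e => hb1 (hinj b hb e),
      fun e => hab (hf a ha b hb e)⟩
  · rintro _ ⟨a, ha, rfl⟩ _ ⟨b, hb, rfl⟩ haa hbb ha1 hb1
    obtain ⟨k, hk⟩ := h.trans a ha b hb (hsq a ha haa) (hsq b hb hbb) (fun e => ha1 (by rw [e, map_one]))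
      (fun e => hb1 (by rw [e, map_one]))
    exact ⟨k, by rw [← hk, map_mul, map_mul, map_inv, map_pow]⟩
  intro α h2 hfix hc x
  let g : ↥P ≃* ↥(P.map f) := MulEquiv.ofBijective (f.subgroupMap P)
    ⟨fun a b e => Subtype.ext (hf _ a.2 _ b.2 (congrArg Subtype.val e)), f.subgroupMap_surjective P⟩
  have hg : ∀ w : ↥P, (g w : G') = f w := fun w => rfl
  let β : ↥P ≃* ↥P := (g.trans α).trans g.symm
  have hβ : ∀ w, g (β w) = α (g w) := fun w => g.apply_symm_apply _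
  have hres := h.rigid β (fun w => g.injective (by rw [hβ, hβ, h2]))
    (fun z hz => g.injective (by rw [hβ, hfix _ (by rw [← map_mul, hz, map_one])]))
    (fun a b hab => hf _ (β b).2 _ (h.normal _ |>.1 (β a).2) (by
      rw [← hg, hβ, hc (g a) (g b) (by rw [hg, hg, hab, map_mul, map_mul, map_inv]), ← hβ, hg, map_mul,
        map_mul, map_inv]))
    (g.symm x)
  have h3 := congrArg g hres
  rwa [hβ, g.apply_symm_apply] at h3

end CfsgLib.CycInter
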